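import Groth.Agent.H60.AffQuot.Finite
import Groth.Prelude.Def_ChGrp

/-!
Actions of an affine group on affine schemes attached to comodule algebras.
-/

set_option autoImplicit false

universe u

open CategoryTheory MonoidalCategory CartesianMonoidalCategory MonObj AlgebraicGeometry TensorProduct CoactBr
open Groth.Agent.H60.AffQuot

namespace Groth.Agent.H60.Slice

noncomputable section

variable {k : Type u} [Field k] {A : Type u} [CommRing A] [HopfAlgebra k A]
  {G : Over (Spec (CommRingCat.of k))} [GrpObj G] (e : G ≅ sp k A) [IsMonHom e.hom]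

/-- The action of the group on the spectrum of a comodule algebra. -/
def actP (P : Type u) [CommRing P] [Algebra k P] [HopfRep.Comod k A P] [GLin.IsCoactAlg k A P] :
    AlgGrp.Action G (sp k P) :=
  (CoactBr.action k A P).restrict e.hom

theorem act_actP {P : Type u} [CommRing P] [Algebra k P] [HopfRep.Comod k A P] [GLin.IsCoactAlg k A P]
    {T : Type u} [CommRing T] [Algebra k T] (g : A →ₐ[k] T) (y : P →ₐ[k] T) :
    lift (gPt e g) (pt y) ≫ (actP e P).act =
      pt ((Algebra.TensorProduct.lift y (g.comp (HopfAlgebra.antipodeAlgHom k A)) fun _ _ => .all _ _).comp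
        (GLin.coactAlgHom k A P)) := by
  rw [actP, AlgGrp.Action.lift_restrict_act, gPt, Category.assoc, Iso.inv_hom_id, Category.comp_id]
  exact CoactBr.lift_pt_action_act g y

theorem hom_ext_prodPt {R : Type u} [CommRing R] [Algebra k R] {X Y : Over (Spec (CommRingCat.of k))}
    (eX : X ≅ sp k R) {f f' : G ⊗ X ⟶ Y}
    (h : lift (gPt e (Algebra.TensorProduct.includeLeft : A →ₐ[k] A ⊗[k] R)) (xPt eX Algebra.TensorProduct.includeRight) ≫ f =
      lift (gPt e (Algebra.TensorProduct.includeLeft : A →ₐ[k] A ⊗[k] R)) (xPt eX Algebra.TensorProduct.includeRight) ≫ f') :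
    f = f' :=
  (cancel_epi (prodPt e eX)).1 h

/-- An equivariant algebra map gives an equivariant morphism. -/
theorem isEquivariant_pt {P Q : Type u} [CommRing P] [Algebra k P] [HopfRep.Comod k A P] [GLin.IsCoactAlg k A P]
    [CommRing Q] [Algebra k Q] [HopfRep.Comod k A Q] [GLin.IsCoactAlg k A Q] (f : P →ₐ[k] Q)
    (hf : Hoch.IsComodHom A f.toLinearMap) : AlgGrp.Action.IsEquivariant (actP e Q) (actP e P) (pt f) := by
  refine hom_ext_prodPt e (Iso.refl (sp k Q)) ?_
  rw [show xPt (Iso.refl (sp k Q)) (Algebra.TensorProduct.includeRight : Q →ₐ[k] A ⊗[k] Q) =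
      pt Algebra.TensorProduct.includeRight from Category.comp_id _,
    ← Category.assoc, act_actP, lift_whiskerLeft_assoc, ← pt_comp, ← pt_comp, act_actP]
  congr 1
  refine AlgHom.ext fun p => ?_
  have h := LinearMap.congr_fun hf p
  simp only [LinearMap.comp_apply, AlgHom.toLinearMap_apply] at h
  simp only [AlgHom.comp_apply, GLin.coactAlgHom_apply, h]
  induction HopfRep.Comod.coact (k := k) (A := A) p using TensorProduct.induction_on with
  | zero => simp
  | add y z hy hz => simp only [map_add, hy, hz]
  | tmul v c => simp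

variable {R : Type u} [CommRing R] [Algebra k R] {X : Over (Spec (CommRingCat.of k))} (eX : X ≅ sp k R)
  (a : AlgGrp.Action G X)

theorem isCoactAlg_rComod :
    letI := rComod e eX a
    GLin.IsCoactAlg k A R :=
  letI := rComod e eX a
  ⟨map_one (rcoact e eX a), map_mul (rcoact e eX a)⟩

/-- The given action is the one of its coaction. -/
theorem isEquivariant_eX :
    letI := rComod e eX a
    haveI := isCoactAlg_rComod e eX a
    AlgGrp.Action.IsEquivariant a (actP e R) eX.hom := by
  letI := rComod e eX a
  haveI := isCoactAlg_rComod e eX a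
  refine hom_ext_prodPt e eX ?_
  rw [← Category.assoc, act_rule, lift_whiskerLeft_assoc,
    show xPt eX (Algebra.TensorProduct.includeRight : R →ₐ[k] A ⊗[k] R) ≫ eX.hom =
      pt Algebra.TensorProduct.includeRight from by rw [xPt, Category.assoc, Iso.inv_hom_id, Category.comp_id],
    act_actP, xPt, Category.assoc, Iso.inv_hom_id, Category.comp_id]
  congr 1
  refine AlgHom.ext fun r => ?_
  simp only [AlgHom.comp_apply]
  rw [show GLin.coactAlgHom k A R r = rcoact e eX a r from rfl, rcoact, AlgHom.comp_apply]
  generalize coact e eX a r = z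
  induction z using TensorProduct.induction_on with
  | zero => simp
  | add y z hy hz => simp only [map_add, hy, hz]
  | tmul b s =>
    simp [Algebra.TensorProduct.tmul_mul_tmul]
    exact congrArg (· ⊗ₜ[k] s) (AlgHom.congr_fun antipode_comp_antipode b).symm

/-- Points moved by rational points of the group. -/
theorem comp_orbitMap_actP {P : Type u} [CommRing P] [Algebra k P] [HopfRep.Comod k A P] [GLin.IsCoactAlg k A P]
    (y : P →ₐ[k] k) (o : 𝟙_ (Over (Spec (CommRingCat.of k))) ⟶ sp k P)
    (ho : toUnit (sp k k) ≫ o = pt y) {T : Type u} [CommRing T] [Algebra k T] (g : A →ₐ[k] T) :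
    gPt e g ≫ (actP e P).orbitMap o =
      pt (((g.comp (HopfAlgebra.antipodeAlgHom k A)).comp (GLin.orbitHom k A y))) := by
  have h1 : toUnit (sp k T) ≫ o = pt ((Algebra.ofId k T).comp y) := by
    rw [pt_comp, ← ho, ← Category.assoc, toUnit_unique (pt (Algebra.ofId k T) ≫ toUnit _) (toUnit _)]
  rw [AlgGrp.Action.comp_orbitMap, h1, act_actP]
  congr 1
  refine AlgHom.ext fun p => ?_
  simp only [AlgHom.comp_apply, GLin.orbitHom, GLin.coactAlgHom_apply]
  induction HopfRep.Comod.coact (k := k) (A := A) p using TensorProduct.induction_on with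
  | zero => simp
  | add y z hy hz => simp only [map_add, hy, hz]
  | tmul v c => simp [Algebra.ofId_apply, Algebra.smul_def (R := k) (A := T)]

end

end Groth.Agent.H60.Slice
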