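import Groth.Agent.H60.Slice.Setup

/-!
Averaging a projection of the trivial bundle onto the cotangent sheaf of the orbit over the group.
-/

set_option autoImplicit false
set_option linter.unusedSectionVars false
set_option linter.style.haveILetI false
universe u

open TensorProduct
open Groth.Agent.Lib.Comod Groth.Agent.Lib.Comod.Basic Groth.Agent.Lib.Comod.Orbits Groth.Agent.Lib.Comod.Alg
  Groth.Agent.H60.SubAlg Groth.Agent.H60.Haar Groth.Agent.H60.SliceLift

namespace Groth.Agent.H60.Slice

noncomputable section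

variable {k : Type u} [Field k] [IsAlgClosed k] {A : Type u} [CommRing A] [IsReduced A] [HopfAlgebra k A]
  [Algebra.FiniteType k A]
variable {O : Type u} [CommRing O] [Algebra k O] [Algebra.FormallySmooth k O] [HopfRep.Comod k A O]
  [GLin.IsCoactAlg k A O]
variable {W : Type u} [AddCommGroup W] [Module k W] [HopfRep.Comod k A W]
variable {ι : Type u} [Fintype ι] (bas : Module.Basis ι k W) (ω : W →ₗ[k] O)

/-- An element all of whose point values are equal averages to that value. -/
theorem contract_eq_of_pts {η : A →ₗ[k] k} (hη1 : η 1 = 1) {V : Type u} [AddCommGroup V] [Module k V]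
    (y : V ⊗[k] A) (c : V) (h : ∀ g : A →ₐ[k] k, contract V g.toLinearMap y = c) : contract V η y = c := by
  rw [show y = c ⊗ₜ[k] (1 : A) from ext_pt fun g => by simp [h g], contract_tmul, hη1, one_smul]

/-- An equivariant idempotent on coordinate vectors, with the kernel of the differential. -/
theorem exists_proj (hG : HopfRep.IsLinearlyReductive k A) (hω : Hoch.IsComodHom A ω)
    (hgen : Algebra.adjoin k (Set.range ω) = ⊤) :
    ∃ Pj : (ι → O) →ₗ[O] (ι → O), (∀ m, dF bas ω (Pj m) = dF bas ω m) ∧ (∀ z, dF bas ω z = 0 → Pj z = 0) ∧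
      letI := ambComod (A := A) (O := O) bas
      HopfRep.IsSubcomod (k := k) (A := A) (LinearMap.range ((L bas ω).restrictScalars k ∘ₗ Pj.restrictScalars k ∘ₗ cv bas)) := by
  classical
  letI := ambComod (A := A) (O := O) bas
  haveI := AlgComod.isCoactAlg_poly (H := A) (A := O) bas
  obtain ⟨η, hη1, hη⟩ := exists_haar hG
  obtain ⟨σ, hσ⟩ := Module.projective_lifting_property (dF bas ω) (LinearMap.id : Ω[O⁄k] →ₗ[O] Ω[O⁄k])
    (dF_surjective bas ω hgen)
  let s : (ι → O) →ₗ[O] (ι → O) := σ ∘ₗ dF bas ω
  have hs : ∀ m, dF bas ω (s m) = dF bas ω m := fun m => LinearMap.congr_fun hσ (dF bas ω m)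
  -- conjugates of the projection
  let Pg : (A →ₐ[k] k) → (ι → O) → (ι → O) := fun g m => tM bas ω g (s (tM bas ω (invPt g) m))
  have hadd : ∀ g m m', Pg g (m + m') = Pg g m + Pg g m' := fun g m m' => by simp only [Pg, map_add]
  have hinv : ∀ (g : A →ₐ[k] k) (o : O), transR g (transR (invPt g) o) = o := fun g o => by
    rw [transR_apply, transR_apply, dact_dact, ← mulPt_toLinearMap, mulPt_invPt]
    exact dact_counit_apply _ o
  have hsmul : ∀ g (o : O) m, Pg g (o • m) = o • Pg g m := fun g o m => by
    simp only [Pg, tM_smul bas ω hω, map_smul, hinv]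
  have hdF : ∀ g m, dF bas ω (Pg g m) = dF bas ω m := fun g m => by
    have h1 : dF bas ω (s (tM bas ω (invPt g) m) - tM bas ω (invPt g) m) = 0 := by rw [map_sub, hs, sub_self]
    have h2 := dF_tM_eq_zero bas ω hω g h1
    rwa [map_sub, tM_tM_invPt bas ω hω, map_sub, sub_eq_zero] at h2
  have hker : ∀ g z, dF bas ω z = 0 → Pg g z = 0 := fun g z hz => by
    simp only [Pg, s, LinearMap.comp_apply, dF_tM_eq_zero bas ω hω (invPt g) hz, map_zero]
  let F : W →ₗ[k] MvPolynomial ι O := (L bas ω).restrictScalars k ∘ₗ s.restrictScalars k ∘ₗ cv bas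
  have hpt : ∀ (g : A →ₐ[k] k) (w : W),
      contract (MvPolynomial ι O) g.toLinearMap (xi (A := A) F w) = L bas ω (Pg g (cv bas w)) := fun g w => by
    rw [contract_xi_pt, ← transR_apply,
      show F (dact W (invPt g).toLinearMap w) = L bas ω (s (cv bas (dact W (invPt g).toLinearMap w))) from rfl,
      ← tM_cv bas ω hω]
    exact (L_tM bas ω hω g _).symm
  let φ : W →ₗ[k] MvPolynomial ι O := homDact (A := A) η F
  have hφ : Hoch.IsComodHom A φ := isComodHom_homDact hη1 hη F
  -- linear images of the average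
  have avg : ∀ (V : Type u) [AddCommGroup V] [Module k V] (Λ : MvPolynomial ι O →ₗ[k] V) (w : W) (c : V),
      (∀ g, Λ (L bas ω (Pg g (cv bas w))) = c) → Λ (φ w) = c := by
    intro V _ _ Λ w c h
    rw [show φ w = contract _ η (xi (A := A) F w) from rfl, ← contract_rTensor η Λ]
    exact contract_eq_of_pts hη1 _ c fun g => by rw [contract_rTensor, hpt, h]
  let ψ : W →ₗ[k] (ι → O) := rho.restrictScalars k ∘ₗ φ
  have hLψ : ∀ w, L bas ω (ψ w) = φ w := fun w => by
    have := avg _ (LinearMap.id - (L bas ω).restrictScalars k ∘ₗ rho.restrictScalars k) w 0 fun g => by simp [rho_L]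
    simp only [LinearMap.sub_apply, LinearMap.id_apply, LinearMap.comp_apply, LinearMap.restrictScalars_apply,
      sub_eq_zero] at this
    exact this.symm
  let Pj : (ι → O) →ₗ[O] (ι → O) := Fintype.linearCombination O fun i => ψ (bas i)
  have hcvb : ∀ i, cv (O := O) bas (bas i) = Pi.single i 1 := fun i => by simp [cv]
  have hPjcv : ∀ w, Pj (cv bas w) = ψ w := fun w => by
    have : Pj.restrictScalars k ∘ₗ cv bas = ψ :=
      bas.ext fun i => by simp [Pj, hcvb, Fintype.linearCombination_apply_single]
    exact LinearMap.congr_fun this w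
  refine ⟨Pj, fun m => ?_, fun z hz => ?_, ?_⟩
  · have : dF bas ω ∘ₗ Pj = dF bas ω := by
      refine (Pi.basisFun O ι).ext fun i => ?_
      rw [LinearMap.comp_apply, Pi.basisFun_apply, ← hcvb, hPjcv]
      exact avg _ ((dF bas ω).restrictScalars k ∘ₗ rho.restrictScalars k) (bas i) _ fun g => by
        simp [rho_L, hdF]
    exact LinearMap.congr_fun this m
  · rw [show Pj z = ∑ i, z i • ψ (bas i) from Fintype.linearCombination_apply _ _ _]
    let Λ : ι → (MvPolynomial ι O →ₗ[k] (ι → O)) := fun i => (z i • (rho : MvPolynomial ι O →ₗ[O] (ι → O))).restrictScalars k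
    have h := contract_eq_of_pts (k := k) (A := A) hη1 (∑ i, (Λ i).rTensor A (xi (A := A) F (bas i))) 0 fun g => by
      rw [map_sum]
      simp only [contract_rTensor, hpt]
      simp only [Λ, LinearMap.restrictScalars_apply, LinearMap.smul_apply, rho_L, ← hsmul]
      refine (map_sum (AddMonoidHom.mk' (Pg g) (hadd g)) _ _).symm.trans ?_
      refine (congrArg (Pg g) ?_).trans (hker g z hz)
      funext j
      simp [hcvb, Finset.sum_apply, Pi.single_apply]
    rw [map_sum] at h
    simp only [contract_rTensor] at h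
    exact h
  · have : (L bas ω).restrictScalars k ∘ₗ Pj.restrictScalars k ∘ₗ cv bas = φ :=
      LinearMap.ext fun w => by simp [hPjcv, hLψ]
    rw [this]
    exact isSubcomod_range hφ

end

end Groth.Agent.H60.Slice
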