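import Groth.Agent.H60.TorsorCat
import Groth.Agent.H60.TorsorComp
import Groth.Prelude.Def_ChGrp
import Groth.Prelude.Def_W4bk4git07Quot
import Mathlib.AlgebraicGeometry.Sites.Fpqc

/-!
An equivariant scheme over a homogeneous space is the balanced product of the group and its fibre at
the base point.
-/

set_option autoImplicit false
set_option backward.isDefEq.respectTransparency false
set_option backward.isDefEq.respectTransparency.types false

universe u

open CategoryTheory CategoryTheory.Limits AlgebraicGeometry MonoidalCategory CartesianMonoidalCategory MonObj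

namespace Groth.Agent.H60.Slice

variable {S : Scheme.{u}} {G H O W V : Over S} [GrpObj G] [GrpObj H]

theorem exists_balProd (i : H ⟶ G) [IsMonHom i] (aO : AlgGrp.Action G O) (o : 𝟙_ (Over S) ⟶ O)
    (hstab : IsPullback i (toUnit H) (aO.orbitMap o) o)
    [Flat (aO.orbitMap o).left] [LocallyOfFinitePresentation (aO.orbitMap o).left] [Surjective (aO.orbitMap o).left]
    (aW : AlgGrp.Action G W) (r : W ⟶ O) (hr : AlgGrp.Action.IsEquivariant aW aO r)
    (inc : V ⟶ W) (hV : IsPullback inc (toUnit V) r o) :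
    ∃ aV : AlgGrp.Action H V, aV.act ≫ inc = (H ◁ inc) ≫ (aW.restrict i).act ∧
      ChGrp.IsBalProd Scheme.fppfPrecoverage i aV aW ((G ◁ inc) ≫ aW.act) ∧
      GIT.IsCatQuot (ChGrp.twist i aV) ((G ◁ inc) ≫ aW.act) := by
  have hmono : Mono o := ⟨fun _ _ _ => toUnit_unique _ _⟩
  haveI : Mono inc := ⟨fun {T} a b h => hV.hom_ext h (toUnit_unique _ _)⟩
  have hr' : ∀ {T : Over S} (g : T ⟶ G) (w : T ⟶ W), lift g w ≫ aW.act ≫ r = lift g (w ≫ r) ≫ aO.act := by
    intro T g w
    rw [show aW.act ≫ r = (G ◁ r) ≫ aO.act from hr, lift_whiskerLeft_assoc]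
  have hinc : ∀ {T : Over S} (v : T ⟶ V), v ≫ inc ≫ r = toUnit T ≫ o := fun v => by
    rw [hV.w, ← Category.assoc, toUnit_unique (v ≫ toUnit V) (toUnit _)]
  have hfix : ∀ {T : Over S} (h : T ⟶ H), lift (h ≫ i) (toUnit T ≫ o) ≫ aO.act = toUnit T ≫ o := fun h => by
    rw [← AlgGrp.Action.comp_orbitMap, Category.assoc, hstab.w, ← Category.assoc, toUnit_unique (h ≫ toUnit H) (toUnit _)]
  obtain ⟨act, hact, -⟩ := hV.exists_lift ((H ◁ inc) ≫ (aW.restrict i).act) (toUnit _) (by
    refine AlgGrp.Action.hom_ext_lift₂ fun T h v => ?_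
    rw [Category.assoc, lift_whiskerLeft_assoc, ← Category.assoc (lift h (v ≫ inc)), AlgGrp.Action.lift_restrict_act,
      Category.assoc, hr', Category.assoc v, hinc, hfix, ← Category.assoc, toUnit_unique (lift h v ≫ toUnit _) (toUnit T)])
  let aV : AlgGrp.Action H V :=
    { act := act
      one_act := (cancel_mono inc).1 (AlgGrp.Action.hom_ext_lift₂ fun T u v => by
        rw [Category.assoc, hact, lift_whiskerRight_assoc, lift_whiskerLeft_assoc,
          AlgGrp.Action.lift_restrict_act, leftUnitor_hom, lift_snd_assoc]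
        have hu : u ≫ η[H] = 1 := by rw [Hom.one_def, toUnit_unique (toUnit T) u]
        rw [hu, MonObj.one_comp, AlgGrp.Action.lift_one_act])
      mul_act := (cancel_mono inc).1 (AlgGrp.Action.hom_ext_lift₃ fun T h h' v => by
        simp only [Category.assoc, hact, lift_whiskerRight_assoc, lift_whiskerLeft_assoc,
          lift_lift_associator_hom_assoc, AlgGrp.Action.lift_restrict_act, ← Hom.mul_def, MonObj.mul_comp,
          AlgGrp.Action.lift_mul_act]) }
  have hVact : aV.act ≫ inc = (H ◁ inc) ≫ (aW.restrict i).act := hact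
  set j := (G ◁ inc) ≫ aW.act with hjdef
  have hj : ∀ {T : Over S} (g : T ⟶ G) (v : T ⟶ V), lift g v ≫ j = lift g (v ≫ inc) ≫ aW.act := fun g v => by
    rw [hjdef, lift_whiskerLeft_assoc]
  have hVh : ∀ {T : Over S} (h : T ⟶ H) (v : T ⟶ V),
      (lift h v ≫ aV.act) ≫ inc = lift (h ≫ i) (v ≫ inc) ≫ aW.act := fun h v => by
    rw [Category.assoc, hVact, lift_whiskerLeft_assoc, AlgGrp.Action.lift_restrict_act]
  have hjr : ∀ {T : Over S} (g : T ⟶ G) (v : T ⟶ V), lift g v ≫ j ≫ r = g ≫ aO.orbitMap o := fun g v => by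
    rw [← Category.assoc, hj, Category.assoc, hr', Category.assoc, hinc, AlgGrp.Action.comp_orbitMap]
  -- the base change of the orbit map
  have hsq : IsPullback j (fst G V) r (aO.orbitMap o) := by
    have w : j ≫ r = fst G V ≫ aO.orbitMap o := AlgGrp.Action.hom_ext_lift₂ fun T g v => by
      rw [hjr, lift_fst_assoc]
    have hex : ∀ s : PullbackCone r (aO.orbitMap o), ∃ v : s.pt ⟶ V, v ≫ inc = lift (s.snd)⁻¹ s.fst ≫ aW.act := fun s => by
      obtain ⟨v, hv, -⟩ := hV.exists_lift (lift (s.snd)⁻¹ s.fst ≫ aW.act) (toUnit _) (by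
        rw [Category.assoc, hr', s.condition, AlgGrp.Action.comp_orbitMap, ← AlgGrp.Action.lift_mul_act,
          inv_mul_cancel, AlgGrp.Action.lift_one_act])
      exact ⟨v, hv⟩
    choose v hv using hex
    refine ⟨⟨w⟩, ⟨PullbackCone.IsLimit.mk w (fun s => lift s.snd (v s)) (fun s => ?_) (fun s => lift_fst _ _)
      fun s m h1 h2 => ?_⟩⟩
    · rw [hj, hv, ← AlgGrp.Action.lift_mul_act, mul_inv_cancel, AlgGrp.Action.lift_one_act]
    · have e : m = lift s.snd (m ≫ snd G V) := by ext <;> simp [h2]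
      rw [e]
      congr 1
      refine (cancel_mono inc).1 ?_
      rw [hv, ← h1]
      conv_rhs => rw [e, hj, ← AlgGrp.Action.lift_mul_act, inv_mul_cancel, AlgGrp.Action.lift_one_act]
  have hl : IsPullback j.left (fst G V).left r.left (aO.orbitMap o).left := hsq.map (Over.forget S)
  haveI : Flat j.left := MorphismProperty.of_isPullback (P := @Flat) hl.flip inferInstance
  haveI : LocallyOfFinitePresentation j.left := MorphismProperty.of_isPullback (P := @LocallyOfFinitePresentation) hl.flip inferInstance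
  haveI : Surjective j.left := MorphismProperty.of_isPullback (P := @Surjective) hl.flip inferInstance
  have hloc : NonAbH1.IsLocallyTrivialFor Scheme.fppfPrecoverage (Over.mk j.left : Over W.left) := by
    refine ⟨Presieve.singleton j.left, j.left.singleton_mem_fppfPrecoverage, ?_⟩
    rintro _ _ ⟨⟩
    exact ⟨𝟙 _, Category.id_comp _⟩
  have hpb : IsPullback (ChGrp.twist i aV).act (snd H (G ⊗ V)) j j := by
    have hinv : ∀ {T : Over S} (h : T ⟶ H) (g : T ⟶ G) (v : T ⟶ V),
        lift (g * (h ≫ i)⁻¹) (lift h v ≫ aV.act) ≫ j = lift g v ≫ j := fun h g v => by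
      rw [hj, hVh, hj, ← AlgGrp.Action.lift_mul_act, inv_mul_cancel_right]
    refine TorsorComp.isPullback_of_points _ _ ?_ (fun T y₁ y₂ he => ?_) fun T h h' y he => ?_
    · refine AlgGrp.Action.hom_ext_lift₂ fun T h y => ?_
      have : y = lift (y ≫ fst G V) (y ≫ snd G V) := by simp
      rw [this, ← Category.assoc, ChGrp.lift_twist_act, hinv, lift_snd_assoc]
    · set g₁ := y₁ ≫ fst G V
      set g₂ := y₂ ≫ fst G V
      set v₁ := y₁ ≫ snd G V
      set v₂ := y₂ ≫ snd G V
      have e₁ : y₁ = lift g₁ v₁ := by simp [g₁, v₁]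
      have e₂ : y₂ = lift g₂ v₂ := by simp [g₂, v₂]
      have ho := congrArg (· ≫ r) he
      simp only [Category.assoc] at ho
      rw [e₁, e₂, hjr, hjr] at ho
      obtain ⟨h, hh, -⟩ := hstab.exists_lift (g₁⁻¹ * g₂) (toUnit T) (by
        rw [AlgGrp.Action.comp_orbitMap, AlgGrp.Action.lift_mul_act, ← AlgGrp.Action.comp_orbitMap, ← ho,
          AlgGrp.Action.comp_orbitMap, ← AlgGrp.Action.lift_mul_act, inv_mul_cancel, AlgGrp.Action.lift_one_act])
      refine ⟨h, ?_⟩
      rw [e₂, ChGrp.lift_twist_act, e₁]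
      congr 1
      · rw [hh, _root_.mul_inv_rev, mul_inv_cancel_left, inv_inv]
      · refine (cancel_mono inc).1 ?_
        rw [e₁, e₂, hj, hj] at he
        rw [hVh, hh, AlgGrp.Action.lift_mul_act, ← he, ← AlgGrp.Action.lift_mul_act, inv_mul_cancel,
          AlgGrp.Action.lift_one_act]
    · have e : y = lift (y ≫ fst G V) (y ≫ snd G V) := by simp
      rw [e, ChGrp.lift_twist_act, ChGrp.lift_twist_act] at he
      have h1 := congrArg (· ≫ fst G V) he
      simp only [lift_fst] at h1
      exact hstab.hom_ext (inv_injective (mul_left_cancel h1)) (toUnit_unique _ _)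
  refine ⟨aV, hVact, ⟨?_, hpb, hloc⟩, TorsorCat.isCatQuot _ _ hpb ?_⟩
  · refine AlgGrp.Action.hom_ext_lift₂ fun T g y => ?_
    have e : y = lift (y ≫ fst G V) (y ≫ snd G V) := by simp
    rw [e, ← Category.assoc, AlgGrp.Action.lift_prod_act, AlgGrp.Action.lift_trivial_act, hj, ← Category.assoc,
      lift_whiskerLeft, hj, ← AlgGrp.Action.lift_mul_act]
    congr 2
  · obtain ⟨R, hR, hsec⟩ := hloc
    exact ⟨R, Scheme.fppfPrecoverage_le_fpqcPrecoverage _ hR, hsec⟩

end Groth.Agent.H60.Slice
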