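import Groth.Agent.H60.Slice.Avg
import Groth.Agent.S18962
import Groth.Agent.Lib.Flat55.SmoothBCNormalization
import Mathlib.Algebra.TrivSqZeroExt.Basic
import Mathlib.RingTheory.Smooth.Locus
import Mathlib.RingTheory.Ideal.Cotangent

/-!
The subbundle cut out by an idempotent: it is smooth, and étale over the representation at the base
point.
-/

set_option autoImplicit false
set_option linter.unusedSectionVars false
set_option linter.style.haveILetI false
universe u

open TensorProduct TrivSqZeroExt

namespace Groth.Agent.H60.Slice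

noncomputable section

variable {k : Type u} [Field k]
variable {O : Type u} [CommRing O] [Algebra k O]
variable {W : Type u} [AddCommGroup W] [Module k W]
variable {ι : Type u} [Fintype ι] (bas : Module.Basis ι k W) (ω : W →ₗ[k] O)

/-- Evaluation of polynomials over the orbit. -/
def evalO {C : Type*} [CommRing C] [Algebra k C] (v : O →ₐ[k] C) (c : ι → C) : MvPolynomial ι O →ₐ[k] C :=
  { MvPolynomial.eval₂Hom v.toRingHom c with
    commutes' := fun r => by
      rw [IsScalarTower.algebraMap_apply k O (MvPolynomial ι O), MvPolynomial.algebraMap_eq]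
      simp }

@[simp] theorem evalO_C {C : Type*} [CommRing C] [Algebra k C] (v : O →ₐ[k] C) (c : ι → C) (o : O) :
    evalO v c (MvPolynomial.C o) = v o := by simp [evalO]

@[simp] theorem evalO_X {C : Type*} [CommRing C] [Algebra k C] (v : O →ₐ[k] C) (c : ι → C) (i : ι) :
    evalO v c (MvPolynomial.X i) = c i := by simp [evalO]

theorem evalO_L {C : Type*} [CommRing C] [Algebra k C] (v : O →ₐ[k] C) (c : ι → C) (m : ι → O) :
    evalO v c (L bas ω m) = ∑ i, v (m i) * (c i - v (ω (bas i))) := by
  simp [L, Fintype.linearCombination_apply, MvPolynomial.smul_eq_C_mul, xiw_apply, lin_basis, map_sum]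

variable (Pj : (ι → O) →ₗ[O] (ι → O))

/-- The ideal of the subbundle. -/
def relI : Ideal (MvPolynomial ι O) := Ideal.span (Set.range fun w : W => L bas ω (Pj (cv bas w)))

theorem L_mem_relI (m : ι → O) : L bas ω (Pj m) ∈ relI bas ω Pj := by
  classical
  have e : Pj m = ∑ i, m i • Pj (cv bas (bas i)) := by
    rw [show (∑ i, m i • Pj (cv bas (bas i))) = Pj (∑ i, m i • cv bas (bas i)) by simp]
    congr 1
    funext j
    simp [cv, Pi.single_apply]
  rw [e, map_sum]
  refine Ideal.sum_mem _ fun i _ => ?_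
  rw [map_smul, MvPolynomial.smul_eq_C_mul]
  exact Ideal.mul_mem_left _ _ (Ideal.subset_span ⟨bas i, rfl⟩)

variable (hdF : ∀ m, dF bas ω (Pj m) = dF bas ω m) (hker : ∀ z, dF bas ω z = 0 → Pj z = 0)

include hdF hker in
theorem proj_idem (m : ι → O) : Pj (Pj m) = Pj m := by
  have := hker (Pj m - m) (by rw [map_sub, hdF, sub_self])
  rwa [map_sub, sub_eq_zero] at this

local notation "TT" => MvPolynomial ι O ⧸ relI bas ω Pj

include hdF hker in
theorem formallySmooth [Algebra.FormallySmooth k O] : Algebra.FormallySmooth k TT := by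
  refine Algebra.FormallySmooth.of_comp_surjective fun C _ _ J hJ f => ?_
  let q : MvPolynomial ι O →ₐ[k] TT := Ideal.Quotient.mkₐ k _
  obtain ⟨v, hv⟩ := Algebra.FormallySmooth.comp_surjective k O J hJ
    ((f.comp q).comp (IsScalarTower.toAlgHom k O (MvPolynomial ι O)))
  have hv' : ∀ o, Ideal.Quotient.mk J (v o) = f (q (MvPolynomial.C o)) := fun o => AlgHom.congr_fun hv o
  choose c hc using fun i => Ideal.Quotient.mk_surjective (f (q (MvPolynomial.X i)))
  let ξ : (ι → O) → C := fun m => ∑ i, v (m i) * (c i - v (ω (bas i)))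
  have hξadd : ∀ m n, ξ (m + n) = ξ m + ξ n := fun m n => by
    simp [ξ, add_mul, Finset.sum_add_distrib]
  have hξsmul : ∀ (o : O) m, ξ (o • m) = v o * ξ m := fun o m => by
    simp [ξ, Finset.mul_sum, mul_assoc]
  classical
  have hexp : ∀ m, ∑ i, v (m i) * ξ (Pj (Pi.single i 1)) = ξ (Pj m) := by
    intro m
    conv_rhs => rw [pi_eq_sum_univ m, map_sum]
    rw [show ξ (∑ i, Pj (m i • fun j => if i = j then (1 : O) else 0)) =
      ∑ i, ξ (Pj (m i • fun j => if i = j then (1 : O) else 0)) from map_sum (AddMonoidHom.mk' ξ hξadd) _ _]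
    refine Finset.sum_congr rfl fun i _ => ?_
    rw [map_smul, hξsmul]
    congr 2
    congr 1
    funext j
    simp [Pi.single_apply, eq_comm]
  let F := evalO v fun i => c i - ξ (Pj (Pi.single i 1))
  have hFL : ∀ m, F (L bas ω m) = ξ m - ξ (Pj m) := fun m => by
    rw [evalO_L, ← hexp m, ← Finset.sum_sub_distrib]
    exact Finset.sum_congr rfl fun i _ => by ring
  refine ⟨Ideal.Quotient.liftₐ _ F fun a ha => ?_, ?_⟩
  · have : relI bas ω Pj ≤ RingHom.ker F := by
      rw [relI, Ideal.span_le]
      rintro _ ⟨w, rfl⟩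
      rw [SetLike.mem_coe, RingHom.mem_ker, hFL, proj_idem bas ω Pj hdF hker, sub_self]
    exact this ha
  · refine Ideal.Quotient.algHom_ext k (AlgHom.coe_ringHom_injective (MvPolynomial.ringHom_ext (fun o => ?_) fun i => ?_))
    · simpa [F, q] using hv' o
    · have h0 : Ideal.Quotient.mk J (ξ (Pj (Pi.single i 1))) = f (q (L bas ω (Pj (Pi.single i 1)))) := by
        rw [L, Fintype.linearCombination_apply]
        simp only [ξ, map_sum, map_mul, map_sub, hv', hc, MvPolynomial.smul_eq_C_mul, xiw_apply, lin_basis]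
      rw [show q (L bas ω (Pj (Pi.single i 1))) = 0 from
        Ideal.Quotient.eq_zero_iff_mem.2 (L_mem_relI bas ω Pj _), map_zero] at h0
      simp [F, h0, hc, q]

variable (xo : O →ₐ[k] k)

/-- The base point of the representation. -/
def basePt : MvPolynomial ι k →ₐ[k] k := MvPolynomial.aeval fun i => xo (ω (bas i))

theorem evalO_base_L (m : ι → O) : evalO xo (fun i => xo (ω (bas i))) (L bas ω m) = 0 := by
  simp [evalO_L]

/-- The base point of the subbundle. -/
def pT : TT →ₐ[k] k :=
  Ideal.Quotient.liftₐ _ (evalO xo fun i => xo (ω (bas i))) fun a ha => by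
    have : relI bas ω Pj ≤ RingHom.ker (evalO xo fun i => xo (ω (bas i))) := by
      rw [relI, Ideal.span_le]
      rintro _ ⟨w, rfl⟩
      exact evalO_base_L bas ω xo _
    exact this ha

theorem pT_mk (p : MvPolynomial ι O) :
    pT bas ω Pj xo (Ideal.Quotient.mkₐ k _ p) = evalO xo (fun i => xo (ω (bas i))) p := rfl

/-- The projection to the representation. -/
def toT : MvPolynomial ι k →ₐ[k] TT :=
  (Ideal.Quotient.mkₐ k _).comp (MvPolynomial.aeval fun i => (MvPolynomial.X i : MvPolynomial ι O))

theorem toT_X (i : ι) : toT bas ω Pj (MvPolynomial.X i) = Ideal.Quotient.mkₐ k _ (MvPolynomial.X i) := by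
  simp [toT]

theorem pT_comp : (pT bas ω Pj xo).comp (toT bas ω Pj) = basePt bas ω xo :=
  MvPolynomial.algHom_ext fun i => by simp [toT_X, pT_mk, basePt, pT]

theorem ker_le : RingHom.ker (basePt bas ω xo) ≤ (RingHom.ker (pT bas ω Pj xo)).comap (toT bas ω Pj) := by
  intro s hs
  rw [Ideal.mem_comap, RingHom.mem_ker, ← AlgHom.comp_apply, pT_comp]
  exact hs

variable (hgen : Algebra.adjoin k (Set.range ω) = ⊤)

include hdF in
theorem mem_sup (hgen : Algebra.adjoin k (Set.range ω) = ⊤) (t : TT) (ht : pT bas ω Pj xo t = 0) :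
    t ∈ (RingHom.ker (basePt bas ω xo)).map (toT bas ω Pj) ⊔ RingHom.ker (pT bas ω Pj xo) ^ 2 := by
  classical
  set p := pT bas ω Pj xo
  set N := (RingHom.ker (basePt bas ω xo)).map (toT bas ω Pj) ⊔ RingHom.ker p ^ 2
  let q : MvPolynomial ι O →ₐ[k] TT := Ideal.Quotient.mkₐ k _
  let qc : O →ₐ[k] TT := q.comp (IsScalarTower.toAlgHom k O (MvPolynomial ι O))
  have hpc : ∀ o, p (qc o) = xo o := fun o => evalO_C (ι := ι) _ _ o
  have hmul : ∀ a b : TT, a - algebraMap k TT (p a) ∈ N → b - algebraMap k TT (p b) ∈ N →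
      a * b - algebraMap k TT (p (a * b)) ∈ N := fun a b ha hb => by
    rw [map_mul, map_mul, show a * b - algebraMap k TT (p a) * algebraMap k TT (p b) =
      (a - algebraMap k TT (p a)) * b + algebraMap k TT (p a) * (b - algebraMap k TT (p b)) by ring]
    exact add_mem (N.mul_mem_right _ ha) (N.mul_mem_left _ hb)
  have hX : ∀ i, q (MvPolynomial.X i) - algebraMap k TT (xo (ω (bas i))) ∈ N := fun i => by
    refine Ideal.mem_sup_left ?_
    have h : (MvPolynomial.X i - MvPolynomial.C (xo (ω (bas i))) : MvPolynomial ι k) ∈ RingHom.ker (basePt bas ω xo) := by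
      simp [basePt]
    have := Ideal.mem_map_of_mem (toT bas ω Pj) h
    rwa [map_sub, toT_X, show MvPolynomial.C (xo (ω (bas i))) = algebraMap k (MvPolynomial ι k) _ from rfl,
      AlgHom.commutes] at this
  -- first order along the orbit
  let ev : O ⊗[k] O →ₐ[k] O := Algebra.TensorProduct.lift ((Algebra.ofId k O).comp xo) (AlgHom.id k O) fun _ _ => .all _ _
  have hev : (KaehlerDifferential.ideal k O).map ev ≤ RingHom.ker xo := by
    rw [Ideal.map_le_iff_le_comap]
    intro z hz
    rw [Ideal.mem_comap, RingHom.mem_ker, ← AlgHom.comp_apply,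
      show xo.comp ev = xo.comp (Algebra.TensorProduct.lmul' k) from Algebra.TensorProduct.ext' fun a b => by simp [ev],
      AlgHom.comp_apply, RingHom.mem_ker.1 hz, map_zero]
  have hq0 : ∀ o, xo o = 0 → qc o ∈ RingHom.ker p := fun o ho => by rw [RingHom.mem_ker, hpc, ho]
  have hω : ∀ i, qc (ω (bas i)) - algebraMap k TT (xo (ω (bas i))) ∈ N := by
    intro i
    set e : ι → O := Pi.single i 1
    have h1 : dF bas ω (Pj e - e) = 0 := by rw [map_sub, hdF, sub_self]
    rw [dF_eq_zero_iff] at h1
    have h2 := Ideal.mem_map_of_mem ev h1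
    rw [Ideal.map_pow] at h2
    have h3 := Ideal.pow_right_mono hev 2 h2
    have h4 := Ideal.mem_map_of_mem qc h3
    rw [Ideal.map_pow] at h4
    have h5 : qc (ev (beta bas ω (L bas ω (Pj e - e)))) ∈ N :=
      Ideal.mem_sup_right (Ideal.pow_right_mono (Ideal.map_le_iff_le_comap.2 fun o (ho : o ∈ RingHom.ker xo) => Ideal.mem_comap.2 (hq0 o ho)) 2 h4)
    let d : O → TT := fun o => qc o - algebraMap k TT (xo o)
    let l : TT := ∑ j, algebraMap k TT (xo (Pj e j)) * d (ω (bas j))
    have h6 : qc (ev (beta bas ω (L bas ω (Pj e - e)))) = l - d (ω (bas i)) := by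
      have : ∀ m : ι → O, qc (ev (beta bas ω (L bas ω m))) = ∑ j, algebraMap k TT (xo (m j)) * d (ω (bas j)) := by
        intro m
        simp only [L, Fintype.linearCombination_apply, map_sum, MvPolynomial.smul_eq_C_mul, map_mul, beta_C,
          beta_xiw, map_sub]
        refine Finset.sum_congr rfl fun j _ => ?_
        simp [ev, d, Algebra.ofId_apply, AlgHom.commutes]
      rw [map_sub, map_sub, map_sub, map_sub, this, this, sub_right_inj]
      simp [e, Pi.single_apply, ← map_mul]
    have h7 : l ∈ N := by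
      have h0 : (0 : TT) = ∑ j, qc (Pj e j) * (q (MvPolynomial.X j) - qc (ω (bas j))) := by
        rw [← show q (L bas ω (Pj e)) = 0 from Ideal.Quotient.eq_zero_iff_mem.2 (L_mem_relI bas ω Pj _)]
        simp [L, Fintype.linearCombination_apply, MvPolynomial.smul_eq_C_mul, xiw_apply, lin_basis, qc,
          MvPolynomial.algebraMap_eq]
      have : l = ∑ j, (algebraMap k TT (xo (Pj e j)) * (q (MvPolynomial.X j) - algebraMap k TT (xo (ω (bas j)))) +
          (qc (Pj e j) - algebraMap k TT (xo (Pj e j))) * (q (MvPolynomial.X j) - qc (ω (bas j)))) := by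
        conv_lhs => rw [← add_zero l, h0, ← Finset.sum_add_distrib]
        exact Finset.sum_congr rfl fun j _ => by simp only [d]; ring
      rw [this]
      refine Ideal.sum_mem _ fun j _ => add_mem (N.mul_mem_left _ (hX j)) (Ideal.mem_sup_right ?_)
      rw [pow_two]
      refine Ideal.mul_mem_mul ?_ ?_
      · rw [RingHom.mem_ker, map_sub, hpc, AlgHom.commutes]; simp
      · rw [RingHom.mem_ker, map_sub, hpc, show p (q (MvPolynomial.X j)) = xo (ω (bas j)) from evalO_X _ _ j, sub_self]
    rw [h6] at h5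
    have := sub_mem h7 h5
    rwa [sub_sub_cancel] at this
  have hO : ∀ o, qc o - algebraMap k TT (p (qc o)) ∈ N := fun o => by
    have hor : o ∈ Algebra.adjoin k (Set.range ω) := hgen ▸ Algebra.mem_top
    induction hor using Algebra.adjoin_induction with
    | mem y hy =>
      obtain ⟨w, rfl⟩ := hy
      rw [show ω w = ∑ i, algebraMap k O (bas.repr w i) * ω (bas i) by
        conv_lhs => rw [← bas.sum_repr w]
        simp only [map_sum, map_smul, Algebra.smul_def]]
      simp only [hpc, map_sum, map_mul, AlgHom.commutes]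
      rw [← Finset.sum_sub_distrib]
      refine Ideal.sum_mem _ fun i _ => ?_
      rw [Algebra.algebraMap_self, RingHom.id_apply, ← mul_sub]
      exact N.mul_mem_left _ (hω i)
    | algebraMap c => simp
    | add a b _ _ ha hb => simp only [map_add, add_sub_add_comm]; exact add_mem ha hb
    | mul a b _ _ ha hb => rw [map_mul]; exact hmul _ _ ha hb
  obtain ⟨P, rfl⟩ := Ideal.Quotient.mkₐ_surjective k _ t
  have key : ∀ P, q P - algebraMap k TT (p (q P)) ∈ N := fun P => by
    induction P using MvPolynomial.induction_on with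
    | C o => simpa [qc, MvPolynomial.algebraMap_eq] using hO o
    | add a b ha hb => simp only [map_add, add_sub_add_comm]; exact add_mem ha hb
    | mul_X a i ha =>
      rw [map_mul]
      refine hmul _ _ ha ?_
      rw [show p (q (MvPolynomial.X i)) = xo (ω (bas i)) from evalO_X _ _ i]
      exact hX i
  have h := key P
  rw [show p (q P) = 0 from ht, map_zero, sub_zero] at h
  exact h

theorem exists_linear_part (s : MvPolynomial ι k) :
    ∃ c : ι → k, s - MvPolynomial.C (basePt bas ω xo s) -
      ∑ i, c i • (MvPolynomial.X i - MvPolynomial.C (xo (ω (bas i)))) ∈ RingHom.ker (basePt bas ω xo) ^ 2 := by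
  classical
  set m := RingHom.ker (basePt bas ω xo)
  let d : ι → MvPolynomial ι k := fun i => MvPolynomial.X i - MvPolynomial.C (xo (ω (bas i)))
  have hd : ∀ i, d i ∈ m := fun i => by simp [d, m, basePt]
  induction s using MvPolynomial.induction_on with
  | C a => exact ⟨0, by simp [basePt]⟩
  | add a b ha hb =>
    obtain ⟨c, hc⟩ := ha; obtain ⟨c', hc'⟩ := hb
    refine ⟨c + c', ?_⟩
    convert add_mem hc hc' using 1
    simp only [map_add, Pi.add_apply, add_smul, Finset.sum_add_distrib]; ring
  | mul_X a j ha =>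
    obtain ⟨c, hc⟩ := ha
    refine ⟨xo (ω (bas j)) • c + basePt bas ω xo a • Pi.single j 1, ?_⟩
    set v := basePt bas ω xo a
    have hv : basePt bas ω xo (a * MvPolynomial.X j) = v * xo (ω (bas j)) := by simp [v, basePt]
    have e : a * MvPolynomial.X j - MvPolynomial.C (v * xo (ω (bas j))) -
        ∑ i, (xo (ω (bas j)) • c + v • Pi.single j 1 : ι → k) i • d i =
        (a - MvPolynomial.C v) * d j + MvPolynomial.C (xo (ω (bas j))) * (a - MvPolynomial.C v - ∑ i, c i • d i) := by
      simp only [Pi.add_apply, Pi.smul_apply, smul_eq_mul, add_smul, Finset.sum_add_distrib, MvPolynomial.smul_eq_C_mul,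
        map_mul, Pi.single_apply, mul_ite, mul_one, mul_zero, apply_ite (MvPolynomial.C (σ := ι) (R := k)), map_zero,
        ite_mul, zero_mul, mul_sub, Finset.sum_sub_distrib, Finset.sum_ite_eq', Finset.mem_univ, if_true, Finset.mul_sum, d]
      ring
    rw [hv, e]
    refine add_mem ?_ (Ideal.mul_mem_left _ _ hc)
    rw [pow_two]
    exact Ideal.mul_mem_mul (by simp [m, v, basePt]) (hd j)

include hdF hker hgen in
theorem eq_zero_of_linear (c : ι → k)
    (hc : toT bas ω Pj (∑ i, c i • (MvPolynomial.X i - MvPolynomial.C (xo (ω (bas i))))) ∈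
      RingHom.ker (pT bas ω Pj xo) ^ 2) : c = 0 := by
  classical
  funext l
  obtain ⟨σ, hσ⟩ : ∃ σ : Ω[O⁄k] → (ι → O), ∀ y, dF bas ω (σ y) = y :=
    ⟨_, Function.surjInv_eq (dF_surjective bas ω hgen)⟩
  -- tangent functional
  let τ : Ω[O⁄k] → k := fun y => xo (Pj (σ y) l)
  have hτ : ∀ m, τ (dF bas ω m) = xo (Pj m l) := fun m => by
    have := hker (σ (dF bas ω m) - m) (by rw [map_sub, hσ, sub_self])
    rw [map_sub, sub_eq_zero] at this
    simp [τ, this]
  have hτadd : ∀ y z, τ (y + z) = τ y + τ z := fun y z => by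
    rw [← hσ y, ← hσ z, ← map_add, hτ, hτ, hτ, map_add, Pi.add_apply, map_add]
  have hτsmul : ∀ (o : O) y, τ (o • y) = xo o * τ y := fun o y => by
    rw [← hσ y, ← map_smul, hτ, hτ, map_smul, Pi.smul_apply, smul_eq_mul, map_mul]
  let D := KaehlerDifferential.D k O
  have hτ0 : τ 0 = 0 := by simpa using hτsmul 0 0
  have hD : ∀ r : k, τ (D (algebraMap k O r)) = 0 := fun r => by
    rw [Derivation.map_algebraMap, ← zero_smul O (0 : Ω[O⁄k]), hτsmul, map_zero, zero_mul]
  let v : O →ₐ[k] TrivSqZeroExt k k :=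
    { toFun := fun o => inl (xo o) + inr (τ (D o))
      map_one' := by
        have := hD 1
        rw [map_one] at this
        simp [this, hτ0]
      map_mul' := fun a b => by
        ext
        · simp
        · simp only [Derivation.leibniz, hτadd, hτsmul, snd_add, snd_inl, snd_inr, zero_add, snd_mul, fst_add,
            fst_inl, fst_inr, add_zero, smul_eq_mul, MulOpposite.smul_eq_mul_unop, MulOpposite.unop_op]
          ring
      map_zero' := by
        have := hD 0
        rw [map_zero] at this
        simp [this, hτ0]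
      map_add' := fun a b => by ext <;> simp [hτadd]
      commutes' := fun r => by
        ext <;> simp [hD, hτ0, TrivSqZeroExt.algebraMap_eq_inl] }
  let c' : ι → TrivSqZeroExt k k := fun i => inl (xo (ω (bas i))) + inr (if i = l then 1 else 0)
  have hrel : relI bas ω Pj ≤ RingHom.ker (evalO v c') := by
    rw [relI, Ideal.span_le]
    rintro _ ⟨w, rfl⟩
    rw [SetLike.mem_coe, RingHom.mem_ker, evalO_L]
    set m := Pj (cv bas w)
    have h1 : τ (dF bas ω m) = xo (m l) := by rw [hτ, proj_idem bas ω Pj hdF hker]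
    have h2 : τ (dF bas ω m) = ∑ i, xo (m i) * τ (D (ω (bas i))) := by
      rw [dF, Fintype.linearCombination_apply,
        show τ (∑ i, m i • D (ω (bas i))) = ∑ i, τ (m i • D (ω (bas i))) from map_sum (AddMonoidHom.mk' τ hτadd) _ _]
      simp [hτsmul]
    ext
    · simp [v, c', TrivSqZeroExt.fst_sum]
    · simp only [v, c', TrivSqZeroExt.snd_sum, AlgHom.coe_mk, RingHom.coe_mk, MonoidHom.coe_mk, OneHom.coe_mk,
        snd_mul, fst_sub, snd_sub, fst_add, snd_add, fst_inl, fst_inr, snd_inl, snd_inr, add_zero, zero_add,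
        smul_eq_mul, MulOpposite.smul_eq_mul_unop, MulOpposite.unop_op, sub_self, mul_zero, zero_mul, snd_zero,
        mul_sub, Finset.sum_sub_distrib, mul_ite, mul_one]
      rw [Finset.sum_add_distrib, Finset.sum_add_distrib, Finset.sum_ite_eq', ← h2, h1]
      simp
  let δ : TT →ₐ[k] TrivSqZeroExt k k := Ideal.Quotient.liftₐ _ (evalO v c') fun a ha => hrel ha
  have hfst : (TrivSqZeroExt.fstHom k k k).comp δ = pT bas ω Pj xo :=
    Ideal.Quotient.algHom_ext k (AlgHom.coe_ringHom_injective (MvPolynomial.ringHom_ext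
      (fun o => by simp [δ, v, pT_mk, pT]) fun i => by simp [δ, c', pT_mk, pT]))
  have hsq : RingHom.ker (pT bas ω Pj xo) ^ 2 ≤ RingHom.ker δ := by
    rw [pow_two, Ideal.mul_le]
    intro a ha b hb
    have ha' : (δ a).fst = 0 := (AlgHom.congr_fun hfst a).trans ha
    have hb' : (δ b).fst = 0 := (AlgHom.congr_fun hfst b).trans hb
    rw [RingHom.mem_ker, map_mul]
    ext <;> simp [ha', hb']
  have := congrArg TrivSqZeroExt.snd (RingHom.mem_ker.1 (hsq hc))
  simpa [δ, c', toT, map_sum, TrivSqZeroExt.snd_sum, TrivSqZeroExt.algebraMap_eq_inl, basePt] using this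

include hdF hker hgen in
theorem cotangent_bijective :
    Function.Bijective (Ideal.mapCotangent (RingHom.ker (basePt bas ω xo)) (RingHom.ker (pT bas ω Pj xo))
      (toT bas ω Pj) (ker_le bas ω Pj xo)) := by
  classical
  refine ⟨(injective_iff_map_eq_zero _).2 fun y hy => ?_, fun y => ?_⟩
  · obtain ⟨⟨s, hs⟩, rfl⟩ := Ideal.toCotangent_surjective _ y
    rw [Ideal.mapCotangent_toCotangent, Ideal.toCotangent_eq_zero] at hy
    rw [Ideal.toCotangent_eq_zero]
    obtain ⟨c, hc⟩ := exists_linear_part bas ω xo s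
    rw [RingHom.mem_ker.1 hs, map_zero, sub_zero] at hc
    have h2 := Ideal.mem_map_of_mem (toT bas ω Pj) hc
    rw [Ideal.map_pow] at h2
    have h3 := Ideal.pow_right_mono (Ideal.map_le_iff_le_comap.2 (ker_le bas ω Pj xo)) 2 h2
    rw [map_sub] at h3
    have h4 := sub_mem hy h3
    rw [sub_sub_cancel] at h4
    have hc0 := eq_zero_of_linear bas ω Pj hdF hker xo hgen c h4
    simpa [hc0] using hc
  · obtain ⟨⟨t, ht⟩, rfl⟩ := Ideal.toCotangent_surjective _ y
    obtain ⟨a, ha, b, hb, rfl⟩ := Submodule.mem_sup.1 (mem_sup bas ω Pj hdF xo hgen t ht)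
    have key : ∃ s ∈ RingHom.ker (basePt bas ω xo), a - toT bas ω Pj s ∈ RingHom.ker (pT bas ω Pj xo) ^ 2 := by
      clear ht
      rw [Ideal.map] at ha
      induction ha using Submodule.span_induction with
      | mem y hy => obtain ⟨s, hs, rfl⟩ := hy; exact ⟨s, hs, by simp⟩
      | zero => exact ⟨0, zero_mem _, by simp⟩
      | add a b _ _ iha ihb =>
        obtain ⟨s, hs, h⟩ := iha
        obtain ⟨s', hs', h'⟩ := ihb
        exact ⟨s + s', add_mem hs hs', by rw [map_add, add_sub_add_comm]; exact add_mem h h'⟩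
      | smul d a _ iha =>
        obtain ⟨s, hs, h⟩ := iha
        refine ⟨MvPolynomial.C (pT bas ω Pj xo d) * s, Ideal.mul_mem_left _ _ hs, ?_⟩
        have e : d • a - toT bas ω Pj (MvPolynomial.C (pT bas ω Pj xo d) * s) =
            d * (a - toT bas ω Pj s) + (d - algebraMap k TT (pT bas ω Pj xo d)) * toT bas ω Pj s := by
          rw [smul_eq_mul, map_mul, show MvPolynomial.C (pT bas ω Pj xo d) = algebraMap k (MvPolynomial ι k) _ from rfl,
            AlgHom.commutes]
          ring
        rw [e]
        refine add_mem (Ideal.mul_mem_left _ _ h) ?_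
        rw [pow_two]
        exact Ideal.mul_mem_mul (by simp [RingHom.mem_ker]) (ker_le bas ω Pj xo hs)
    obtain ⟨s, hs, h⟩ := key
    refine ⟨(RingHom.ker (basePt bas ω xo)).toCotangent ⟨s, hs⟩, ?_⟩
    rw [Ideal.mapCotangent_toCotangent, Ideal.toCotangent_eq]
    have : toT bas ω Pj s - (a + b) = -(a - toT bas ω Pj s + b) := by ring
    rw [this]
    exact neg_mem (add_mem h hb)

include hdF hker hgen in
/-- The subbundle is normal, and étale over the representation, at the base point. -/
theorem etale_and_normal [IsAlgClosed k] [Algebra.FormallySmooth k O] [Algebra.FiniteType k O] :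
    letI := (toT bas ω Pj).toRingHom.toAlgebra
    haveI : (RingHom.ker (pT bas ω Pj xo)).IsPrime := RingHom.ker_isPrime _
    Algebra.Smooth k TT ∧ Algebra.IsEtaleAt (MvPolynomial ι k) (RingHom.ker (pT bas ω Pj xo)) ∧
      ∀ (m : Ideal TT) [m.IsPrime], IsDomain (Localization.AtPrime m) ∧ IsIntegrallyClosed (Localization.AtPrime m) := by
  letI := (toT bas ω Pj).toRingHom.toAlgebra
  haveI : IsScalarTower k (MvPolynomial ι k) TT := IsScalarTower.of_algebraMap_eq fun r => ((toT bas ω Pj).commutes r).symm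
  haveI : Algebra.FiniteType k (MvPolynomial ι O) :=
    Algebra.FiniteType.trans (S := O) inferInstance inferInstance
  haveI : Algebra.FinitePresentation k TT :=
    Algebra.FinitePresentation.of_finiteType.1 inferInstance
  haveI := formallySmooth bas ω Pj hdF hker
  haveI hsm : Algebra.Smooth k TT := ⟨inferInstance, inferInstance⟩
  refine ⟨hsm, ?_, fun m _ => Groth.Agent.Lib.DescAlg.SmoothNormal.isNormalRing_of_smooth
    (Groth.Agent.Lib.Flat55.SmoothBCNormalization.isNormalRing_field k) m⟩
  haveI : (RingHom.ker (pT bas ω Pj xo)).IsPrime := RingHom.ker_isPrime _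
  exact Groth.Agent.S18962.result k TT (MvPolynomial ι k) (pT bas ω Pj xo) (basePt bas ω xo)
    (pT_comp bas ω Pj xo) (ker_le bas ω Pj xo) (cotangent_bijective bas ω Pj hdF hker xo hgen)
    (fun P _ _ => (Set.eq_univ_iff_forall.1 (Algebra.smoothLocus_eq_univ (R := k) (A := TT))) ⟨P, ‹_›⟩)
    _ le_rfl

end

end Groth.Agent.H60.Slice
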