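import Groth.Agent.H60.Slice.Loc
import Groth.Agent.H60.BaseChange
import Groth.Agent.H60.LunaCart
import Groth.Agent.S19407

/-!
The étale chart: an equivariant map étale at a point with closed orbit, with target embedding a
given variety, gives an étale algebra over the invariants.
-/

set_option autoImplicit false
set_option linter.unusedSectionVars false
set_option linter.style.haveILetI false
universe u

open TensorProduct
open Groth.Agent.Lib.Comod Groth.Agent.Lib.Comod.Basic Groth.Agent.Lib.Comod.Alg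
open Groth.Agent.H60

namespace Groth.Agent.H60.Slice

noncomputable section

variable (k : Type u) [Field k] [IsAlgClosed k] [CharZero k]
  (A : Type u) [CommRing A] [IsDomain A] [HopfAlgebra k A] [Algebra.FiniteType k A]

theorem exists_chart (hG : HopfRep.IsLinearlyReductive k A)
    (S : Type u) [CommRing S] [IsReduced S] [Algebra k S] [Algebra.FiniteType k S] [HopfRep.Comod k A S]
    [GLin.IsCoactAlg k A S]
    (R : Type u) [CommRing R] [Algebra k R] [Algebra.FiniteType k R] [HopfRep.Comod k A R] [GLin.IsCoactAlg k A R]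
    (π : S →ₐ[k] R) (hπ : Hoch.IsComodHom A π.toLinearMap) (hπs : Function.Surjective π) (x : R →ₐ[k] k)
    (T : Type u) [CommRing T] [IsReduced T] [Algebra k T] [Algebra.FiniteType k T] [HopfRep.Comod k A T]
    [GLin.IsCoactAlg k A T]
    (θ : S →ₐ[k] T) (hθ : Hoch.IsComodHom A θ.toLinearMap) (p : T →ₐ[k] k) (hp : p.comp θ = x.comp π)
    (hetale : letI := θ.toRingHom.toAlgebra
      haveI : (RingHom.ker p).IsPrime := RingHom.ker_isPrime _
      Algebra.IsEtaleAt S (RingHom.ker p))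
    (hnormal : haveI : (RingHom.ker p).IsPrime := RingHom.ker_isPrime _
      IsDomain (Localization.AtPrime (RingHom.ker p)) ∧ IsIntegrallyClosed (Localization.AtPrime (RingHom.ker p)))
    (hcl : GLin.IsClosedOrbit k A (p.comp θ))
    (hinj : ∀ g : A →ₐ[k] k, GLin.actPt k g (p.comp θ) = p.comp θ → GLin.actPt k g p = p)
    (O : Type u) [CommRing O] [Algebra k O] [HopfRep.Comod k A O] [GLin.IsCoactAlg k A O]
    (r : O →ₐ[k] T) (hr : Hoch.IsComodHom A r.toLinearMap)
    (hfib : ∀ t : T, ∃ s : S, t - θ s ∈ (RingHom.ker (p.comp r)).map r) :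
    ∃ (C : Type u) (_ : CommRing C) (_ : Algebra k C) (_ : Algebra (GLin.invariants k A R) C)
      (_ : IsScalarTower k (GLin.invariants k A R) C),
      Algebra.Etale (GLin.invariants k A R) C ∧
      ∃ (ρ : O →ₐ[k] R ⊗[GLin.invariants k A R] C) (z : R ⊗[GLin.invariants k A R] C →ₐ[k] k),
        (∀ hfix : ∀ s₀ : GLin.invariants k A R, algebraMap _ R s₀ ∈ HopfRep.fixedPts k A R,
          letI := BaseChange.comod (R₀ := C) (A := A) hfix
          Hoch.IsComodHom A ρ.toLinearMap) ∧
        (∀ q : R, z (q ⊗ₜ 1) = x q) ∧ z.comp ρ = p.comp r ∧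
        ∃ s : R, x s ≠ 0 ∧
          (∃ v, (s ⊗ₜ[GLin.invariants k A R] (1 : C)) * v - 1 ∈ (RingHom.ker (p.comp r)).map ρ) ∧
          ∀ y, ∃ (n : ℕ) (q : R), (s ⊗ₜ[GLin.invariants k A R] (1 : C)) ^ n * y - q ⊗ₜ 1 ∈
            (RingHom.ker (p.comp r)).map ρ := by
  classical
  haveI hpp : (RingHom.ker p).IsPrime := RingHom.ker_isPrime _
  haveI : (RingHom.ker p).IsMaximal := RingHom.ker_isMaximal_of_surjective _ fun c => ⟨algebraMap k T c, p.commutes c⟩
  set S₀ := GLin.invariants k A S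
  set R₀ := GLin.invariants k A R
  set T₀ := GLin.invariants k A T
  have hmem : ∀ {P : Type u} [CommRing P] [Algebra k P] [HopfRep.Comod k A P] [GLin.IsCoactAlg k A P]
      (f : S →ₐ[k] P), Hoch.IsComodHom A f.toLinearMap → ∀ s : S₀, f s ∈ GLin.invariants k A P :=
    fun f hf s => Reynolds.map_mem_fixedPts hf s.2
  letI : Algebra S T := θ.toRingHom.toAlgebra
  haveI : IsScalarTower k S T := IsScalarTower.of_algebraMap_eq fun c => (θ.commutes c).symm
  let ψ₀ : S₀ →ₐ[k] T₀ := (θ.comp S₀.val).codRestrict T₀ (hmem θ hθ)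
  letI : Algebra S₀ T₀ := ψ₀.toRingHom.toAlgebra
  haveI : IsScalarTower S₀ S T := IsScalarTower.of_algebraMap_eq fun _ => rfl
  haveI : IsScalarTower S₀ T₀ T := IsScalarTower.of_algebraMap_eq fun _ => rfl
  haveI : IsScalarTower k S₀ T₀ := IsScalarTower.of_algebraMap_eq fun c => (ψ₀.commutes c).symm
  let π₀ : S₀ →ₐ[k] R₀ := (π.comp S₀.val).codRestrict R₀ (hmem π hπ)
  letI : Algebra S₀ R₀ := π₀.toRingHom.toAlgebra
  haveI : IsScalarTower k S₀ R₀ := IsScalarTower.of_algebraMap_eq fun c => (π₀.commutes c).symm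
  have hequiv : ∀ s : S, HopfRep.Comod.coact (k := k) (A := A) (algebraMap S T s) =
      Algebra.TensorProduct.map (IsScalarTower.toAlgHom k S T) (AlgHom.id k A) (HopfRep.Comod.coact (k := k) (A := A) s) :=
    fun s => by
      have := LinearMap.congr_fun hθ s
      simp only [LinearMap.comp_apply, AlgHom.toLinearMap_apply] at this
      refine this.trans ?_
      induction HopfRep.Comod.coact (k := k) (A := A) s using TensorProduct.induction_on with
      | zero => simp
      | add y z hy hz => simp only [map_add, hy, hz]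
      | tmul _ _ => rfl
  haveI := hnormal.1
  haveI := hnormal.2
  obtain ⟨f, g, hxh, -, -, -, het, hK, hC⟩ := Groth.Agent.S19407.result k A hG S T hequiv
    S₀ Subtype.val_injective (by ext y; exact ⟨fun ⟨a, ha⟩ => ha ▸ a.2, fun hy => ⟨⟨y, hy⟩, rfl⟩⟩)
    T₀ Subtype.val_injective (by ext y; exact ⟨fun ⟨a, ha⟩ => ha ▸ a.2, fun hy => ⟨⟨y, hy⟩, rfl⟩⟩)
    p (RingHom.ker p) rfl hetale hcl hinj
  set h := f * algebraMap S₀ T₀ g
  let C0 := Localization.Away h
  haveI := Luna.finiteType_invariants (A := A) (R := S) hG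
  haveI := Luna.finiteType_invariants (A := A) (R := T) hG
  haveI : IsNoetherianRing S₀ := Algebra.FiniteType.isNoetherianRing k S₀
  haveI : Algebra.FiniteType S₀ T₀ := Algebra.FiniteType.of_restrictScalars_finiteType k S₀ T₀
  haveI : Algebra.FinitePresentation S₀ T₀ := Algebra.FinitePresentation.of_finiteType.1 inferInstance
  haveI hC0 : Algebra.Etale S₀ C0 :=
    Algebra.basicOpen_subset_etaleLocus_iff_etale.1 fun q hq => @het q.asIdeal q.isPrime hq
  have hπ₀ : Function.Surjective π₀ := fun y => by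
    obtain ⟨y', hy', hy''⟩ := Reynolds.exists_fixedPts_lift hG (g := π.toLinearMap) hπ y.2 (hπs y.1)
    exact ⟨⟨y', hy'⟩, Subtype.ext hy''⟩
  let c₀ : C0 →+* k := IsLocalization.Away.lift h (g := p.toRingHom.comp (algebraMap T₀ T)) (Ne.isUnit hxh)
  have hc₀ : ∀ t : T₀, c₀ (algebraMap T₀ C0 t) = p (algebraMap T₀ T t) := fun t => IsLocalization.Away.lift_eq h _ t
  haveI := hC0
  obtain ⟨C, _, _, _, _, hCet, j, c, hj, hjπ, hcj, hcx⟩ := exists_baseChange (k := k) π₀.toRingHom hπ₀
    (x.comp R₀.val) c₀ fun s₀ => by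
      rw [IsScalarTower.algebraMap_apply S₀ T₀ C0, hc₀]
      exact AlgHom.congr_fun hp (s₀ : S)
  refine ⟨C, inferInstance, inferInstance, inferInstance, inferInstance, hCet, ?_⟩
  -- the map from the total space
  let b : T₀ →+* R ⊗[R₀] C :=
    (Algebra.TensorProduct.includeRight : C →ₐ[R₀] R ⊗[R₀] C).toRingHom.comp (j.comp (algebraMap T₀ C0))
  have hbu : IsUnit (b h) :=
    ((IsLocalization.Away.algebraMap_isUnit h).map j).map (Algebra.TensorProduct.includeRight : C →ₐ[R₀] R ⊗[R₀] C)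
  let inc : R →ₐ[k] R ⊗[R₀] C := Algebra.TensorProduct.includeLeft
  have hab : ∀ s : S₀, inc (π (s : S)) = b (algebraMap S₀ T₀ s) := fun s => by
    change (π (s : S)) ⊗ₜ[R₀] (1 : C) = (1 : R) ⊗ₜ[R₀] j (algebraMap T₀ C0 (algebraMap S₀ T₀ s))
    rw [← IsScalarTower.algebraMap_apply, hjπ, Algebra.algebraMap_eq_smul_one, ← TensorProduct.smul_tmul]
    congr 1
    exact (mul_one _).symm
  obtain ⟨Ψ, hΨθ, hΨ₀⟩ := exists_extend (k := k) (S := S) (T := T) h hK hC (inc.comp π) b hab hbu
  have hΨh : IsUnit (Ψ (algebraMap T₀ T h)) := by rw [hΨ₀]; exact hbu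
  have hgenT : ∀ t : T, ∃ n : ℕ, algebraMap T₀ T h ^ n * t ∈
      Algebra.adjoin k (Set.range θ ∪ Set.range (algebraMap T₀ T)) := fun t => by
    obtain ⟨n, z, hz⟩ := hC t
    refine ⟨n, ?_⟩
    rw [← show LunaCart.mu k S T S₀ T₀ z = algebraMap T₀ T h ^ n * t from hz]
    clear hz
    induction z using TensorProduct.induction_on with
    | zero => simp
    | add y w hy hw => rw [map_add]; exact add_mem hy hw
    | tmul s b =>
      rw [LunaCart.mu_tmul]
      exact mul_mem (Algebra.subset_adjoin (.inl ⟨s, rfl⟩)) (Algebra.subset_adjoin (.inr ⟨b, rfl⟩))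
  -- the point
  letI : Algebra R₀ k := ((x : R →+* k).comp (algebraMap R₀ R)).toAlgebra
  let zR : R →ₐ[R₀] k := { toRingHom := (x : R →+* k), commutes' := fun _ => rfl }
  let zC : C →ₐ[R₀] k := { toRingHom := c, commutes' := hcx }
  let z₀ : R ⊗[R₀] C →ₐ[R₀] k := Algebra.TensorProduct.lift zR zC fun _ _ => mul_comm _ _
  have hz₀ : ∀ (q : R) (d : C), z₀ (q ⊗ₜ d) = x q * c d := fun q d => Algebra.TensorProduct.lift_tmul _ _ _ _ _
  let z : R ⊗[R₀] C →ₐ[k] k :=
    { toRingHom := z₀.toRingHom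
      commutes' := fun r => by
        change z₀ (algebraMap k R r ⊗ₜ (1 : C)) = _
        rw [hz₀, map_one, mul_one, AlgHom.commutes] }
  have hzq : ∀ q : R, z (q ⊗ₜ 1) = x q := fun q => (hz₀ q 1).trans (by rw [map_one, mul_one])
  have hzΨ : z.comp Ψ = p := by
    refine AlgHom.ext fun t => ?_
    obtain ⟨n, hn⟩ := hgenT t
    have h1 : Algebra.adjoin k (Set.range θ ∪ Set.range (algebraMap T₀ T)) ≤ AlgHom.equalizer (z.comp Ψ) p := by
      refine Algebra.adjoin_le ?_
      rintro _ (⟨s, rfl⟩ | ⟨b, rfl⟩)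
      · change z (Ψ (θ s)) = p (θ s)
        rw [show Ψ (θ s) = inc (π s) from hΨθ s, ← AlgHom.comp_apply p θ, hp]
        exact hzq _
      · change z (Ψ (algebraMap T₀ T b)) = p (algebraMap T₀ T b)
        rw [hΨ₀]
        refine (hz₀ 1 (j (algebraMap T₀ C0 b))).trans ?_
        rw [map_one, one_mul, hcj, hc₀]
    have h2 : z (Ψ (algebraMap T₀ T h ^ n * t)) = p (algebraMap T₀ T h ^ n * t) := h1 hn
    have h3 : z (Ψ (algebraMap T₀ T h)) = p (algebraMap T₀ T h) := h1 (Algebra.subset_adjoin (.inr ⟨h, rfl⟩))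
    simp only [map_mul, map_pow, h3] at h2
    exact mul_left_cancel₀ (pow_ne_zero n hxh) h2
  refine ⟨Ψ.comp r, z, fun hfix => ?_, hzq, by rw [← AlgHom.comp_assoc, hzΨ], ?_⟩
  · letI := BaseChange.comod (R₀ := C) (A := A) hfix
    haveI := BaseChange.isCoactAlg (R₀ := C) (A := A) hfix
    have hΨ : Hoch.IsComodHom A Ψ.toLinearMap := by
      refine isComodHom_of_unit Ψ (Set.range θ ∪ Set.range (algebraMap T₀ T)) ?_ (algebraMap T₀ T h)
        (.inr ⟨h, rfl⟩) hΨh hgenT
      rintro _ (⟨s, rfl⟩ | ⟨b', rfl⟩)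
      · rw [show Ψ (θ s) = inc (π s) from hΨθ s]
        change BaseChange.coactHom (A := A) hfix (BaseChange.incl (k := k) (1 : C) (π s)) = _
        rw [BaseChange.coactHom_incl, show HopfRep.Comod.coact (k := k) (A := A) (π s) = _ from LinearMap.congr_fun hπ s,
          show HopfRep.Comod.coact (k := k) (A := A) (θ s) = _ from LinearMap.congr_fun hθ s]
        simp only [LinearMap.comp_apply]
        induction HopfRep.Comod.coact (k := k) (A := A) s using TensorProduct.induction_on with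
        | zero => simp
        | add y z hy hz => simp only [map_add, hy, hz]
        | tmul v e =>
          simp only [LinearMap.rTensor_tmul, Algebra.TensorProduct.map_tmul, AlgHom.id_apply, AlgHom.toLinearMap_apply]
          congr 1
          exact (hΨθ v).symm
      · rw [hΨ₀, show HopfRep.Comod.coact (k := k) (A := A) (algebraMap T₀ T b') = algebraMap T₀ T b' ⊗ₜ[k] (1 : A) from b'.2,
          Algebra.TensorProduct.map_tmul, map_one, hΨ₀]
        change BaseChange.coactHom (A := A) hfix (BaseChange.incl (k := k) (j (algebraMap T₀ C0 b')) (1 : R)) = _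
        rw [BaseChange.coactHom_incl, GLin.IsCoactAlg.coact_one (k := k), Algebra.TensorProduct.one_def,
          LinearMap.rTensor_tmul]
        rfl
    exact isComodHom_comp hr hΨ
  · set IX : Ideal (R ⊗[R₀] C) := (RingHom.ker (p.comp r)).map (Ψ.comp r)
    have hIX : ∀ t : T, ∃ s : S, Ψ t - Ψ (θ s) ∈ IX := fun t => by
      obtain ⟨s, hs⟩ := hfib t
      refine ⟨s, ?_⟩
      have := Ideal.mem_map_of_mem Ψ hs
      rw [Ideal.map_mapₐ, map_sub] at this
      exact this
    obtain ⟨s, hsu, ⟨s', hs's, hds⟩, hgen⟩ := exists_fibre θ.toRingHom π.toRingHom inc.toRingHom Ψ.toRingHom hΨθ IX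
      hIX (algebraMap T₀ T h) hΨh (Set.range fun d : C => (1 : R) ⊗ₜ[R₀] d) (by
        rintro _ ⟨d, rfl⟩
        obtain ⟨e, rfl⟩ := hj d
        obtain ⟨n, t, ht⟩ := IsLocalization.Away.surj h e
        refine ⟨n, algebraMap T₀ T t, ?_⟩
        change Ψ (algebraMap T₀ T h) ^ n * _ = Ψ (algebraMap T₀ T t)
        rw [hΨ₀, hΨ₀]
        change ((1 : R) ⊗ₜ[R₀] j (algebraMap T₀ C0 h)) ^ n * _ = (1 : R) ⊗ₜ[R₀] j (algebraMap T₀ C0 t)
        rw [Algebra.TensorProduct.tmul_pow, Algebra.TensorProduct.tmul_mul_tmul, one_pow, one_mul, ← map_pow j,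
          ← map_mul j, mul_comm, ht])
    refine ⟨s, ?_, hsu, fun y => hgen y ?_⟩
    · have hIz : IX ≤ RingHom.ker z := by
        refine Ideal.map_le_iff_le_comap.2 fun o ho => ?_
        rw [Ideal.mem_comap, RingHom.mem_ker, ← AlgHom.comp_apply, ← AlgHom.comp_assoc, hzΨ]
        exact ho
      have h1 := RingHom.mem_ker.1 (hIz hds)
      rw [map_sub, sub_eq_zero] at h1
      have h2 : z (Ψ (θ s')) = x s := by
        rw [show Ψ (θ s') = inc (π s') from hΨθ s', show π s' = s from hs's]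
        exact hzq s
      have h3 : z (Ψ (algebraMap T₀ T h)) = p (algebraMap T₀ T h) := AlgHom.congr_fun hzΨ _
      rw [← h2, ← show z (Ψ (algebraMap T₀ T h)) = z (Ψ (θ s')) from h1, h3]
      exact hxh
    · induction y using TensorProduct.induction_on with
      | zero => exact zero_mem _
      | add a b ha hb => exact add_mem ha hb
      | tmul q d =>
        rw [show q ⊗ₜ[R₀] d = (q ⊗ₜ[R₀] (1 : C)) * ((1 : R) ⊗ₜ[R₀] d) by simp]
        exact mul_mem (Subring.subset_closure (.inl ⟨q, rfl⟩)) (Subring.subset_closure (.inr ⟨d, rfl⟩))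

end

end Groth.Agent.H60.Slice
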