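import Groth.Agent.H60.Slice.Bundle
import Groth.Agent.H60.Slice.Chart

/-!
The algebraic étale slice: an étale algebra over the invariants whose base change maps equivariantly
onto a closed orbit, with fibre a locally closed subscheme.
-/

set_option autoImplicit false
set_option linter.unusedSectionVars false
set_option linter.style.haveILetI false
universe u

open TensorProduct
open Groth.Agent.Lib.Comod Groth.Agent.Lib.Comod.Basic Groth.Agent.Lib.Comod.Orbits Groth.Agent.Lib.Comod.Alg
open Groth.Agent.H60 Groth.Agent.H60.SubAlg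

namespace Groth.Agent.H60.Slice

noncomputable section

variable {k : Type u} [Field k] [IsAlgClosed k] [CharZero k]
  {A : Type u} [CommRing A] [IsDomain A] [HopfAlgebra k A] [Algebra.FiniteType k A]
  {R : Type u} [CommRing R] [Algebra k R] [Algebra.FiniteType k R] [HopfRep.Comod k A R] [GLin.IsCoactAlg k A R]

/-- The point of a closed orbit in its ring of functions. -/
def orbitPt (x : R →ₐ[k] k) : R ⧸ orbitKer (A := A) x →ₐ[k] k :=
  Ideal.Quotient.liftₐ _ x fun a ha => orbitKer_le_ker x ha

theorem exists_slice (hG : HopfRep.IsLinearlyReductive k A) (x : R →ₐ[k] k) (hx : GLin.IsClosedOrbit k A x) :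
    ∃ (C : Type u) (_ : CommRing C) (_ : Algebra k C) (_ : Algebra (GLin.invariants k A R) C)
      (_ : IsScalarTower k (GLin.invariants k A R) C),
      Algebra.Etale (GLin.invariants k A R) C ∧
      ∃ (ρ : R ⧸ orbitKer (A := A) x →ₐ[k] R ⊗[GLin.invariants k A R] C)
        (z : R ⊗[GLin.invariants k A R] C →ₐ[k] k),
        (∀ hfix : ∀ s₀ : GLin.invariants k A R, algebraMap _ R s₀ ∈ HopfRep.fixedPts k A R,
          letI := BaseChange.comod (R₀ := C) (A := A) hfix
          letI : HopfRep.Comod k A (R ⧸ orbitKer (A := A) x) :=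
            quotComod ((orbitKer (A := A) x).restrictScalars k) (isSubcomod_orbitKer x)
          Hoch.IsComodHom A ρ.toLinearMap) ∧
        (∀ q : R, z (q ⊗ₜ 1) = x q) ∧ z.comp ρ = orbitPt x ∧
        ∃ s : R, x s ≠ 0 ∧
          (∃ v, (s ⊗ₜ[GLin.invariants k A R] (1 : C)) * v - 1 ∈ (RingHom.ker (orbitPt (A := A) x)).map ρ) ∧
          ∀ y, ∃ (n : ℕ) (q : R), (s ⊗ₜ[GLin.invariants k A R] (1 : C)) ^ n * y - q ⊗ₜ 1 ∈
            (RingHom.ker (orbitPt (A := A) x)).map ρ := by
  classical
  -- a generating representation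
  obtain ⟨t, ht⟩ := (Algebra.FiniteType.out : (⊤ : Subalgebra k R).FG)
  obtain ⟨W₀, hWfg, hW, htW⟩ := exists_subcomod_fg (k := k) (A := A) (V := R) t
  letI := subComod W₀ hW
  haveI : Module.Finite k W₀ := ⟨(Submodule.fg_top W₀).2 hWfg⟩
  set bas := Module.Free.chooseBasis k W₀
  let ι := Module.Free.ChooseBasisIndex k W₀
  have hinc : Hoch.IsComodHom A W₀.subtype := isComodHom_subtype hW
  -- the orbit
  let O := R ⧸ orbitKer (A := A) x
  letI : HopfRep.Comod k A O := quotComod ((orbitKer (A := A) x).restrictScalars k) (isSubcomod_orbitKer x)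
  obtain ⟨hcO, hmk⟩ := isCoactAlg_quot (P := R) (orbitKer (A := A) x) (isSubcomod_orbitKer x)
  haveI : GLin.IsCoactAlg k A O := hcO
  haveI : Algebra.FormallySmooth k O := OrbitSmooth.formallySmooth x hx
  haveI : Algebra.FiniteType k O := inferInstance
  let ω : W₀ →ₗ[k] O := (Ideal.Quotient.mkₐ k (orbitKer (A := A) x)).toLinearMap ∘ₗ W₀.subtype
  have hω : Hoch.IsComodHom A ω := isComodHom_comp hinc hmk
  have hgen : Algebra.adjoin k (Set.range ω) = ⊤ := by
    refine eq_top_iff.2 fun o _ => ?_
    obtain ⟨r, rfl⟩ := Ideal.Quotient.mkₐ_surjective k _ o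
    have hr : r ∈ Algebra.adjoin k (t : Set R) := ht.symm ▸ Algebra.mem_top
    have := Subalgebra.map_mono (f := Ideal.Quotient.mkₐ k (orbitKer (A := A) x))
      (le_refl (Algebra.adjoin k (t : Set R))) ⟨r, hr, rfl⟩
    rw [AlgHom.map_adjoin] at this
    refine Algebra.adjoin_mono ?_ this
    rintro _ ⟨w, hw, rfl⟩
    exact ⟨⟨w, htW hw⟩, rfl⟩
  obtain ⟨Pj, hdF, hker, hsub⟩ := exists_proj (A := A) bas ω hG hω hgen
  -- the representation
  let S := MvPolynomial ι k
  letI : HopfRep.Comod k A k := trivComod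
  haveI : GLin.IsCoactAlg k A k := isCoactAlg_triv
  letI : HopfRep.Comod k A S := AlgComod.polyComod (H := A) k bas
  haveI : GLin.IsCoactAlg k A S := AlgComod.isCoactAlg_poly (H := A) (A := k) bas
  let π : S →ₐ[k] R := MvPolynomial.aeval fun i => (bas i : R)
  have hhom : ∀ {P : Type u} [CommRing P] [Algebra k P] [HopfRep.Comod k A P] [GLin.IsCoactAlg k A P]
      (f : S →ₐ[k] P) (l : W₀ →ₗ[k] P), Hoch.IsComodHom A l → (∀ i, f (MvPolynomial.X i) = l (bas i)) →
      Hoch.IsComodHom A f.toLinearMap := by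
    intro P _ _ _ _ f l hl hfl
    refine isComodHom_algHom f (Set.range MvPolynomial.X) MvPolynomial.adjoin_range_X ?_
    rintro _ ⟨i, rfl⟩
    have hfl' : f.toLinearMap ∘ₗ AlgComod.lin (A := k) bas = l :=
      bas.ext fun j => by simp [AlgComod.lin, hfl]
    rw [hfl, show HopfRep.Comod.coact (k := k) (A := A) (l (bas i)) = _ from LinearMap.congr_fun hl (bas i),
      show HopfRep.Comod.coact (k := k) (A := A) (MvPolynomial.X i : S) =
        (AlgComod.lin (A := k) bas).rTensor A (HopfRep.Comod.coact (k := k) (A := A) (bas i)) from by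
        rw [← lin_basis (O := k) bas i]
        exact LinearMap.congr_fun (AlgComod.polyHom_lin (H := A) (A := k) bas) (bas i)]
    simp only [LinearMap.comp_apply]
    induction HopfRep.Comod.coact (k := k) (A := A) (bas i) using TensorProduct.induction_on with
    | zero => simp
    | add y z hy hz => simp only [map_add, hy, hz]
    | tmul v e => simp [← hfl']
  have hπ : Hoch.IsComodHom A π.toLinearMap := hhom π W₀.subtype hinc fun i => MvPolynomial.aeval_X _ _
  have hπs : Function.Surjective π := by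
    intro r
    have hr : r ∈ Algebra.adjoin k (t : Set R) := ht.symm ▸ Algebra.mem_top
    have hle : Algebra.adjoin k (t : Set R) ≤ π.range := Algebra.adjoin_le fun w hw => by
      have : π (AlgComod.lin (A := k) bas ⟨w, htW hw⟩) = w := by
        have e : π.toLinearMap ∘ₗ AlgComod.lin (A := k) bas = W₀.subtype := bas.ext fun j => by
          rw [LinearMap.comp_apply, lin_basis]
          exact MvPolynomial.aeval_X _ _
        exact LinearMap.congr_fun e ⟨w, htW hw⟩
      exact ⟨_, this⟩
    exact hle hr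
  -- the bundle
  letI := ambComod (A := A) (O := O) bas
  haveI := AlgComod.isCoactAlg_poly (H := A) (A := O) bas
  have hI : HopfRep.IsSubcomod (k := k) (A := A) ((relI bas ω Pj).restrictScalars k) := by
    have h := isSubcomod_idealSpan (k := k) (A := A) hsub
    rwa [LinearMap.coe_range] at h
  let T := MvPolynomial ι O ⧸ relI bas ω Pj
  letI : HopfRep.Comod k A T := quotComod ((relI bas ω Pj).restrictScalars k) hI
  obtain ⟨hcT, hq⟩ := isCoactAlg_quot (P := MvPolynomial ι O) (relI bas ω Pj) hI
  haveI : GLin.IsCoactAlg k A T := hcT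
  set xo := orbitPt (A := A) x
  have hθ : Hoch.IsComodHom A (toT bas ω Pj).toLinearMap :=
    hhom (toT bas ω Pj) ((Ideal.Quotient.mkₐ k (relI bas ω Pj)).toLinearMap ∘ₗ AlgComod.lin (A := O) bas)
      (isComodHom_comp (AlgComod.polyHom_lin (H := A) (A := O) bas) hq) fun i => (toT_X bas ω Pj i).trans (by
        rw [LinearMap.comp_apply, lin_basis]; rfl)
  let r : O →ₐ[k] T := (Ideal.Quotient.mkₐ k (relI bas ω Pj)).comp (IsScalarTower.toAlgHom k O (MvPolynomial ι O))
  have hr : Hoch.IsComodHom A r.toLinearMap := isComodHom_comp (AlgComod.polyHom_C (H := A) (A := O) bas) hq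
  haveI : Algebra.FiniteType k (MvPolynomial ι O) := Algebra.FiniteType.trans (S := O) inferInstance inferInstance
  obtain ⟨hsm, het, hnor⟩ := etale_and_normal bas ω Pj hdF hker xo hgen
  haveI : IsReduced T := isReduced_ofLocalizationMaximal T fun m _ => by
    haveI := (hnor m).1
    infer_instance
  set p := pT bas ω Pj xo
  have hxπ : (pT bas ω Pj xo).comp (toT bas ω Pj) = x.comp π :=
    (pT_comp bas ω Pj xo).trans (MvPolynomial.algHom_ext fun i => by
      refine (MvPolynomial.aeval_X _ _).trans ?_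
      rw [AlgHom.comp_apply, show π (MvPolynomial.X i) = (bas i : R) from MvPolynomial.aeval_X _ _]
      rfl)
  have hact : ∀ {P Q : Type u} [CommRing P] [Algebra k P] [HopfRep.Comod k A P] [GLin.IsCoactAlg k A P]
      [CommRing Q] [Algebra k Q] [HopfRep.Comod k A Q] [GLin.IsCoactAlg k A Q] (f : P →ₐ[k] Q)
      (_ : Hoch.IsComodHom A f.toLinearMap) (g : A →ₐ[k] k) (y : Q →ₐ[k] k),
      GLin.actPt k g (y.comp f) = (GLin.actPt k g y).comp f := fun f hf g y => AlgHom.ext fun a => by
    rw [AlgHom.comp_apply, actPt_apply, actPt_apply]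
    exact congrArg y (map_dact hf g.toLinearMap a)
  have hclosed : GLin.IsClosedOrbit k A (p.comp (toT bas ω Pj)) := by
    rw [hxπ]
    have e : GLin.orbitHom k A (x.comp π) = (GLin.orbitHom k A x).comp π := AlgHom.ext fun a => by
      refine (Module.Free.chooseBasis k A).repr.injective (Finsupp.ext fun i => ?_)
      change (Module.Free.chooseBasis k A).coord i _ = (Module.Free.chooseBasis k A).coord i _
      rw [apply_orbitHom, AlgHom.comp_apply, AlgHom.comp_apply, apply_orbitHom]
      exact congrArg x (map_dact hπ _ a)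
    unfold GLin.IsClosedOrbit at hx ⊢
    rw [e, show ((GLin.orbitHom k A x).comp π).toRingHom = (GLin.orbitHom k A x).toRingHom.comp π.toRingHom from rfl,
      PrimeSpectrum.comap_comp, Set.range_comp]
    exact (PrimeSpectrum.isClosedEmbedding_comap_of_surjective _ π.toRingHom hπs).isClosedMap _ hx
  have hinj : ∀ g : A →ₐ[k] k, GLin.actPt k g (p.comp (toT bas ω Pj)) = p.comp (toT bas ω Pj) →
      GLin.actPt k g p = p := by
    intro g hg
    rw [hxπ, hact π hπ] at hg
    have hgx : GLin.actPt k g x = x := AlgHom.ext fun a => by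
      obtain ⟨a, rfl⟩ := hπs a
      exact AlgHom.congr_fun hg a
    have hgo : GLin.actPt k g xo = xo := Ideal.Quotient.algHom_ext k ((hact _ hmk g xo).symm.trans (by
      rw [show xo.comp (Ideal.Quotient.mkₐ k (orbitKer (A := A) x)) = x from AlgHom.ext fun _ => rfl, hgx]))
    refine Ideal.Quotient.algHom_ext k (AlgHom.coe_ringHom_injective (MvPolynomial.ringHom_ext (fun o => ?_) fun i => ?_))
    · change GLin.actPt k g p (r o) = p (r o)
      rw [← AlgHom.comp_apply, ← hact r hr, show p.comp r = xo from AlgHom.ext fun o => evalO_C _ _ o, hgo]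
      exact (evalO_C _ _ o).symm
    · have hX : Ideal.Quotient.mkₐ k (relI bas ω Pj) (MvPolynomial.X i) = toT bas ω Pj (MvPolynomial.X i) :=
        (toT_X bas ω Pj i).symm
      change GLin.actPt k g p (Ideal.Quotient.mkₐ k _ (MvPolynomial.X i)) = p (Ideal.Quotient.mkₐ k _ (MvPolynomial.X i))
      rw [hX, ← AlgHom.comp_apply, ← hact _ hθ, hxπ, hact π hπ, hgx, ← hxπ]
      rfl
  have hpr : p.comp r = xo := AlgHom.ext fun o => evalO_C _ _ o
  obtain ⟨C, hC₁, hC₂, hC₃, hC₄, hCet, ρ, z, h1, h2, h3, s, h4, h5, h6⟩ :=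
    exists_chart k A hG S R π hπ hπs x T (toT bas ω Pj) hθ p hxπ het
      (haveI := RingHom.ker_isPrime p; hnor _) hclosed hinj O r hr fun t => by
      obtain ⟨P, rfl⟩ := Ideal.Quotient.mkₐ_surjective k _ t
      rw [hpr]
      induction P using MvPolynomial.induction_on with
      | C o =>
        refine ⟨MvPolynomial.C (xo o), ?_⟩
        rw [show (MvPolynomial.C (xo o) : S) = algebraMap k S (xo o) from rfl, AlgHom.commutes,
          show Ideal.Quotient.mkₐ k (relI bas ω Pj) (MvPolynomial.C o) = r o from rfl, ← r.commutes, ← map_sub]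
        exact Ideal.mem_map_of_mem r (by simp [RingHom.mem_ker])
      | add a b ha hb =>
        obtain ⟨s, hs⟩ := ha; obtain ⟨s', hs'⟩ := hb
        exact ⟨s + s', by rw [map_add, map_add, add_sub_add_comm]; exact add_mem hs hs'⟩
      | mul_X a i ha =>
        obtain ⟨s, hs⟩ := ha
        refine ⟨s * MvPolynomial.X i, ?_⟩
        rw [map_mul, map_mul, toT_X, ← sub_mul]
        exact Ideal.mul_mem_right _ _ hs
  rw [hpr] at h3 h5 h6
  exact ⟨C, hC₁, hC₂, hC₃, hC₄, hCet, ρ, z, h1, h2, h3, s, h4, h5, h6⟩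

end

end Groth.Agent.H60.Slice
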