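import Groth.Agent.H60.Slice.Main
import Groth.Agent.H60.GitQuot.Good
import Groth.Agent.H60.GitQuot.GoodOrbit
import Groth.Agent.H60.GlueQ.Restrict
import Groth.Agent.H60.TorsorGeom
import Groth.Agent.H60.TorsorCharts
import Groth.Prelude.Def_NonAbH2

/-!
Free geometric quotients by reductive groups are torsors, by the étale slice.
-/

set_option autoImplicit false
set_option backward.isDefEq.respectTransparency false

universe u

open CategoryTheory CategoryTheory.Limits MonoidalCategory CartesianMonoidalCategory MonObj AlgebraicGeometry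
open Groth.Agent.H60.GitQuot.Good

namespace Groth.Agent.H60.Slice

noncomputable section

variable {k : Type u} [Field k] {G X Y : Over (Spec (CommRingCat.of k))} [GrpObj G]

local notation "𝟭k" => 𝟙_ (Over (Spec (CommRingCat.of k)))

/-- A trivial chart of an affine good quotient around a closed orbit with trivial stabiliser. -/
theorem exists_trivial_chart [IsAlgClosed k] [CharZero k] (hG : Red.IsReductiveOver k G)
    [IsAffine X.left] [LocallyOfFiniteType X.hom] (a : AlgGrp.Action G X) (π : X ⟶ Y) (hπ : NRQuot.IsGoodQuot a π)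
    (x : 𝟭k ⟶ X) (hx : IsClosed (Set.range (a.orbitMap x).left.base))
    (hH : IsPullback η[G] (toUnit 𝟭k) (a.orbitMap x) x) :
    ∃ (Q : Over (Spec (CommRingCat.of k))) (ψq : Q ⟶ Y) (σ : Q ⟶ X), Etale ψq.left ∧
      (x ≫ π).left pt0 ∈ Set.range ψq.left.base ∧
      IsPullback ((G ◁ σ) ≫ a.act) (snd G Q) π ψq := by
  obtain ⟨V, W, Q, incl, v, aV, aW, j, ψ, πW, ψq, -, -, hv, -, hcat, hbal, hjψ, -, hgood, hw, -, -, het, hsq⟩ :=
    exists_etale_slice G X Y hG a π hπ x hx 𝟭k η[G] hH
  have ht : ∀ {T : Over (Spec (CommRingCat.of k))} (h : T ⟶ 𝟭k), h = 1 := fun h => toUnit_unique _ _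
  have htw : (ChGrp.twist η[G] aV).act = snd _ _ := AlgGrp.Action.hom_ext_lift₂ fun T h y => by
    have e : y = lift (y ≫ fst G V) (y ≫ snd G V) := by simp
    rw [lift_snd, e, ChGrp.lift_twist_act, ht h, MonObj.one_comp, inv_one, _root_.mul_one,
      AlgGrp.Action.lift_one_act]
  obtain ⟨χ, hχ, -⟩ := hcat.2 (G ⊗ V) (𝟙 _) (by rw [GIT.IsInvariant, htw])
  have hχ' : χ ≫ j = 𝟙 W :=
    (hcat.2 W j hcat.1).unique (by rw [← Category.assoc, hχ, Category.id_comp]) (Category.comp_id _)
  let jI : G ⊗ V ≅ W := ⟨j, χ, hχ, hχ'⟩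
  haveI : IsIso j := jI.isIso_hom
  let c : V ⟶ Q := lift (toUnit V ≫ η[G]) (𝟙 V) ≫ j ≫ πW
  have hcπ : j ≫ πW = snd G V ≫ c := by
    have h1 := hbal.1
    refine AlgGrp.Action.hom_ext_lift₂ fun T g w => ?_
    have h2 : lift g (lift (1 : T ⟶ G) w) ≫ ((NonAbH1.trivialAction G).prod (AlgGrp.Action.trivial G V)).act =
        lift g w := by
      rw [AlgGrp.Action.lift_prod_act, AlgGrp.Action.lift_trivial_act]
      congr 1
      show lift g (1 : T ⟶ G) ≫ μ[G] = g
      rw [← Hom.mul_def, _root_.mul_one]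
    rw [lift_snd_assoc, ← h2, Category.assoc, reassoc_of% h1, lift_whiskerLeft_assoc,
      show aW.act ≫ πW = snd G W ≫ πW from hgood.inv, lift_snd_assoc]
    simp only [c, comp_lift_assoc, Category.comp_id, Category.assoc]
    rw [show w ≫ toUnit V ≫ η[G] = (1 : T ⟶ G) by
      rw [← Category.assoc, toUnit_unique (w ≫ toUnit V) (toUnit T), Hom.one_def]]
  obtain ⟨d, hd, -⟩ := (isCatQuot_of_isGoodQuot hgood).2 V (χ ≫ snd G V) (by
    have h1 := hbal.1
    show aW.act ≫ χ ≫ snd G V = snd G W ≫ χ ≫ snd G V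
    rw [← cancel_epi (G ◁ j)]
    rw [← Category.assoc, ← h1, Category.assoc, reassoc_of% hχ, whiskerLeft_snd_assoc, reassoc_of% hχ]
    refine AlgGrp.Action.hom_ext_lift₂ fun T g y => ?_
    have e : y = lift (y ≫ fst G V) (y ≫ snd G V) := by simp
    rw [e, ← Category.assoc, AlgGrp.Action.lift_prod_act, AlgGrp.Action.lift_trivial_act, lift_snd, lift_snd_assoc,
      lift_snd])
  have hcd : c ≫ d = 𝟙 V := by
    simp only [c, Category.assoc, hd, reassoc_of% hχ, lift_snd]
  have hdc : d ≫ c = 𝟙 Q := ((isCatQuot_of_isGoodQuot hgood).2 Q πW hgood.inv).unique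
    (by rw [← Category.assoc, hd, Category.assoc, ← hcπ, reassoc_of% hχ']) (Category.comp_id _)
  let cI : V ≅ Q := ⟨c, d, hcd, hdc⟩
  refine ⟨V, c ≫ ψq, incl, ?_, ?_, ?_⟩
  · haveI := het
    haveI : IsIso c.left := ((Over.forget _).mapIso cI).isIso_hom
    show Etale (c.left ≫ ψq.left)
    infer_instance
  · refine ⟨v.left pt0, ?_⟩
    have e : v ≫ c ≫ ψq = x ≫ π := by
      rw [← hv]
      simp only [c, Category.assoc, hw]
      rw [← Category.assoc j, hjψ, Category.assoc (G ◁ incl), lift_whiskerLeft_assoc, Category.id_comp,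
        show toUnit V ≫ η[G] = (1 : V ⟶ G) from Hom.one_def.symm, ← Category.assoc (lift _ _),
        AlgGrp.Action.lift_one_act]
    rw [← e]
    rfl
  · refine hsq.of_iso jI.symm (Iso.refl _) cI.symm (Iso.refl _) ?_ ?_ (by simp) ?_
    · simp [jI, ← hjψ, reassoc_of% hχ']
    · simp only [jI, cI, Iso.symm_hom]
      rw [← hd]
    · simp [cI, reassoc_of% hdc]

/-- Trivial geometric stabiliser at a rational point. -/
theorem isPullback_one_of_isIso (a : AlgGrp.Action G X) (x : 𝟭k ⟶ X) (h : IsIso (GLinSh.stabTo a x)) :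
    IsPullback η[G] (toUnit 𝟭k) (a.orbitMap x) x := by
  have w : η[G] ≫ a.orbitMap x = toUnit 𝟭k ≫ x := by
    rw [AlgGrp.Action.comp_orbitMap, show η[G] = (1 : 𝟭k ⟶ G) by
      rw [Hom.one_def, toUnit_unique (toUnit 𝟭k) (𝟙 _), Category.id_comp]]
    exact AlgGrp.Action.lift_one_act _ _
  have huniq : ∀ (T : Over (Spec (CommRingCat.of k))) (g : T ⟶ G), g ≫ a.orbitMap x = toUnit T ≫ x → g = 1 := by
    intro T g hg
    have hz : ∀ z : T ⟶ G, z ≫ a.orbitMap x = toUnit T ≫ x →
        (lift z (toUnit T)).left ≫ (GIT.psi a x).left = (toUnit T).left ≫ (lift x (𝟙 𝟭k)).left := fun z hz => by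
      rw [← Over.comp_left, ← Over.comp_left, GIT.psi]
      congr 1
      rw [comp_lift, comp_lift, lift_whiskerLeft_assoc, lift_snd, Category.comp_id,
        ← AlgGrp.Action.comp_orbitMap, hz]
    have h1 : (1 : T ⟶ G) ≫ a.orbitMap x = toUnit T ≫ x := by
      rw [AlgGrp.Action.comp_orbitMap, AlgGrp.Action.lift_one_act]
    let s₁ : T.left ⟶ GLinSh.stab a x := pullback.lift _ _ (hz g hg)
    let s₂ : T.left ⟶ GLinSh.stab a x := pullback.lift _ _ (hz 1 h1)
    haveI := h
    have hs : s₁ = s₂ := (cancel_mono (GLinSh.stabTo a x)).1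
      ((pullback.lift_snd _ _ _).trans (pullback.lift_snd _ _ _).symm)
    have e : lift g (toUnit T) = lift (1 : T ⟶ G) (toUnit T) := Over.OverMorphism.ext
      ((pullback.lift_fst _ _ _).symm.trans ((congrArg (· ≫ pullback.fst _ _) hs).trans (pullback.lift_fst _ _ _)))
    simpa using congrArg (· ≫ fst G 𝟭k) e
  refine ⟨⟨w⟩, ⟨PullbackCone.IsLimit.mk w (fun c => c.snd) (fun c => ?_) (fun c => toUnit_unique _ _)
    fun c m _ _ => toUnit_unique _ _⟩⟩
  rw [huniq _ c.fst (c.condition.trans (congrArg (· ≫ x) (toUnit_unique _ _))), Hom.one_def,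
    toUnit_unique c.snd (toUnit _)]

/-- A torsor has trivial geometric stabilisers. -/
theorem isIso_stabTo (a : AlgGrp.Action G X) (φ : X ⟶ Y) (hcart : IsPullback a.act (snd G X) φ φ)
    {P : Over (Spec (CommRingCat.of k))} (x : P ⟶ X) : IsIso (GLinSh.stabTo a x) := by
  have hm : Mono (GIT.psi a x) := ⟨fun {T} p q h => by
    have hf := congrArg (· ≫ fst X P) h
    have hs := congrArg (· ≫ snd X P) h
    simp only [GIT.psi, Category.assoc, lift_fst, lift_snd] at hf hs
    have e : ∀ r : T ⟶ G ⊗ P, r = lift (r ≫ fst G P) (r ≫ snd G P) := fun r => by simp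
    rw [e p, e q, hs]
    rw [e p, e q, lift_whiskerLeft_assoc, lift_whiskerLeft_assoc, hs] at hf
    rw [TorsorComp.act_inj a φ hcart hf]⟩
  haveI := hm
  haveI : Mono (GIT.psi a x).left := inferInstanceAs (Mono ((Over.forget _).map (GIT.psi a x)))
  haveI : Mono (GLinSh.stabTo a x) := inferInstanceAs (Mono (pullback.snd (GIT.psi a x).left (lift x (𝟙 P)).left))
  haveI : IsSplitEpi (GLinSh.stabTo a x) := ⟨⟨pullback.lift (lift (1 : P ⟶ G) (𝟙 P)).left (𝟙 P.left) (by
    rw [Category.id_comp, ← Over.comp_left, GIT.psi, comp_lift, lift_whiskerLeft_assoc, Category.id_comp,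
      AlgGrp.Action.lift_one_act, lift_snd]), pullback.lift_snd _ _ _⟩⟩
  exact isIso_of_mono_of_isSplitEpi _

/-- Trivial charts around every point make the quotient a torsor. -/
theorem torsor_of_charts (a : AlgGrp.Action G X) (φ : X ⟶ Y) (hinv : GIT.IsInvariant a φ)
    {I : Type u} (Q : I → Over (Spec (CommRingCat.of k))) (ψq : ∀ i, Q i ⟶ Y) (σ : ∀ i, Q i ⟶ X)
    (het : ∀ i, Etale (ψq i).left) (hcov : ∀ y, ∃ i, y ∈ Set.range (ψq i).left.base)
    (hsq : ∀ i, IsPullback ((G ◁ σ i) ≫ a.act) (snd G (Q i)) φ (ψq i)) :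
    IsPullback a.act (snd G X) φ φ ∧
      NonAbH1.IsLocallyTrivialFor Scheme.fpqcPrecoverage (Over.mk φ.left : Over Y.left) :=
  TorsorCharts.torsor_of_cover a φ hinv Q ψq σ (Scheme.fppfPrecoverage_le_fpqcPrecoverage _
    ((Scheme.ofArrows_mem_precoverage_iff _).2 ⟨hcov, fun i => by haveI := het i; exact ⟨inferInstance, inferInstance⟩⟩)) hsq

variable [IsAlgClosed k] [CharZero k]

/-- A free affine geometric quotient by a reductive group is a torsor. -/
theorem torsor_of_free (hG : Red.IsReductiveOver k G) [LocallyOfFiniteType X.hom] (a : AlgGrp.Action G X)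
    (φ : X ⟶ Y) (hq : GIT.IsGeomQuot a φ) [IsAffineHom φ.left]
    (hfree : ∀ x : 𝟭k ⟶ X, IsIso (GLinSh.stabTo a x)) :
    IsPullback a.act (snd G X) φ φ ∧
      NonAbH1.IsLocallyTrivialFor Scheme.fpqcPrecoverage (Over.mk φ.left : Over Y.left) := by
  have hgood : NRQuot.IsGoodQuot a φ :=
    { affine := inferInstance
      inv := hq.inv
      sections := hq.sections
      closed := fun W hW hWi => GitQuot.closed_image hq W hW (by rintro _ ⟨p, hp, rfl⟩; exact hWi p hp)
      inter := fun J W hW hWi => GitQuot.inter_image hq J W fun i =>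
        ⟨hW i, by rintro _ ⟨p, hp, rfl⟩; exact hWi i p hp⟩ }
  have horbit : ∀ x : 𝟭k ⟶ X, IsClosed (Set.range (a.orbitMap x).left.base) := by
    intro x
    have e : Set.range (a.orbitMap x).left.base = φ.left.base ⁻¹' Set.range (x ≫ φ).left.base := by
      ext z
      constructor
      · rintro ⟨g, rfl⟩
        refine ⟨(toUnit G).left g, ?_⟩
        have h : a.orbitMap x ≫ φ = toUnit G ≫ x ≫ φ := by
          rw [AlgGrp.Action.orbitMap, Category.assoc, hq.inv, lift_snd_assoc, Category.assoc]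
        show (x ≫ φ).left ((toUnit G).left g) = φ.left ((a.orbitMap x).left g)
        rw [← Scheme.Hom.comp_apply, ← Scheme.Hom.comp_apply, ← Over.comp_left, ← Over.comp_left, h]
      · rintro ⟨t, ht⟩
        obtain ⟨w, hw1, hw2⟩ := Scheme.Pullback.exists_preimage_pullback (f := φ.left) (g := φ.left) z (x.left t) ht.symm
        obtain ⟨p, hp⟩ := hq.orbit w
        have hp1 : a.act.left p = z := by
          rw [← hw1, ← hp]
          show _ = (GIT.PsiY a φ hq.inv ≫ pullback.fst φ.left φ.left) p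
          rw [GIT.PsiY, pullback.lift_fst]
        have hp2 : (snd G X).left p = x.left t := by
          rw [← hw2, ← hp]
          show _ = (GIT.PsiY a φ hq.inv ≫ pullback.snd φ.left φ.left) p
          rw [GIT.PsiY, pullback.lift_snd]
        obtain ⟨r, hr, -⟩ := Scheme.exists_preimage_of_isPullback (Groth.Agent.Lib.GrpSch.isPullback_whiskerLeft G x) p t hp2
        refine ⟨(fst G 𝟭k).left r, ?_⟩
        have h : fst G 𝟭k ≫ a.orbitMap x = (G ◁ x) ≫ a.act := by
          rw [AlgGrp.Action.orbitMap, comp_lift_assoc, Category.comp_id, ← Category.assoc (fst G 𝟭k) (toUnit G),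
            toUnit_unique (fst G 𝟭k ≫ toUnit G) (snd G 𝟭k)]
          congr 1
        show (a.orbitMap x).left ((fst G 𝟭k).left r) = z
        rw [← Scheme.Hom.comp_apply, ← Over.comp_left, h, Over.comp_left, Scheme.Hom.comp_apply, hr, hp1]
    rw [e]
    exact (isClosed_range_point _).preimage φ.left.continuous
  have hchart : ∀ x : 𝟭k ⟶ X, ∃ (Q : Over (Spec (CommRingCat.of k))) (ψq : Q ⟶ Y) (σ : Q ⟶ X), Etale ψq.left ∧
      (x ≫ φ).left pt0 ∈ Set.range ψq.left.base ∧ IsPullback ((G ◁ σ) ≫ a.act) (snd G Q) φ ψq := by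
    intro x
    obtain ⟨C, v, hv, ⟨c, hc⟩, -⟩ := AlgebraicGeometry.Scheme.exists_affine_mem_range_and_range_subset
      (U := (⊤ : Y.left.Opens)) (x := (x ≫ φ).left pt0) trivial
    haveI := hv
    let U : Y.left.Opens := v.opensRange
    have hU : IsAffineOpen U := isAffineOpen_opensRange v
    let V : X.left.Opens := φ.left ⁻¹ᵁ U
    haveI : IsAffine (GlueQ.sub V).left := hU.preimage φ.left
    haveI : LocallyOfFiniteType (GlueQ.sub V).hom := inferInstanceAs (LocallyOfFiniteType (V.ι ≫ X.hom))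
    have hst : GlueQ.Stable a V := by
      show a.act.left ⁻¹ᵁ (φ.left ⁻¹ᵁ U) = (snd G X).left ⁻¹ᵁ (φ.left ⁻¹ᵁ U)
      rw [← Scheme.Hom.comp_preimage, ← Scheme.Hom.comp_preimage, GIT.IsInvariant.left hq.inv]
    let aV := GlueQ.resAct a V hst
    let φV : GlueQ.sub V ⟶ GlueQ.sub U := Over.homMk (φ.left ∣_ U) (by
      show (φ.left ∣_ U) ≫ U.ι ≫ Y.hom = V.ι ≫ X.hom
      rw [← Category.assoc, morphismRestrict_ι, Category.assoc, Over.w])
    have hgV : NRQuot.IsGoodQuot aV φV := GitQuot.Good.restrict hgood U rfl aV (GlueQ.incl V) rfl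
      (GlueQ.resAct_incl a V hst) φV (morphismRestrict_ι φ.left U)
    have hxV : Set.range x.left.base ⊆ Set.range V.ι.base := by
      rw [Scheme.Opens.range_ι, range_point]
      exact Set.singleton_subset_iff.2 (show φ.left (x.left pt0) ∈ U from ⟨c, hc⟩)
    let xV : 𝟭k ⟶ GlueQ.sub V := Over.homMk (IsOpenImmersion.lift V.ι x.left hxV) (by
      show IsOpenImmersion.lift _ _ _ ≫ V.ι ≫ X.hom = _
      rw [IsOpenImmersion.lift_fac_assoc, Over.w])
    have hxV' : xV ≫ GlueQ.incl V = x := Over.OverMorphism.ext (IsOpenImmersion.lift_fac _ _ _)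
    have horb : aV.orbitMap xV ≫ GlueQ.incl V = a.orbitMap x := by
      rw [AlgGrp.Action.orbitMap, AlgGrp.Action.orbitMap, Category.assoc, GlueQ.resAct_incl,
        lift_whiskerLeft_assoc, Category.assoc, hxV']
    have hcl : IsClosed (Set.range (aV.orbitMap xV).left.base) := by
      have e : Set.range (aV.orbitMap xV).left.base = V.ι.base ⁻¹' Set.range (a.orbitMap x).left.base := by
        rw [← horb, Over.comp_left, Scheme.Hom.comp_base, TopCat.coe_comp, Set.range_comp]
        exact (Set.preimage_image_eq _ V.ι.isOpenEmbedding.injective).symm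
      rw [e]
      exact (horbit x).preimage V.ι.continuous
    have hst' : IsPullback η[G] (toUnit 𝟭k) (aV.orbitMap xV) xV := by
      have h := isPullback_one_of_isIso a x (hfree x)
      have w : η[G] ≫ aV.orbitMap xV = toUnit 𝟭k ≫ xV := by
        rw [← cancel_mono (GlueQ.incl V), Category.assoc, Category.assoc, horb, hxV', h.w]
      refine ⟨⟨w⟩, ⟨PullbackCone.IsLimit.mk w (fun c => c.snd) (fun c => ?_) (fun c => toUnit_unique _ _)
        fun c m _ _ => toUnit_unique _ _⟩⟩
      obtain ⟨l, hl, -⟩ := h.exists_lift c.fst c.snd (by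
        rw [← horb, ← hxV', ← Category.assoc, ← Category.assoc, c.condition])
      rw [← hl, toUnit_unique l c.snd]
    obtain ⟨Q, ψq, σ, het, hmem, hsq⟩ := exists_trivial_chart hG aV φV hgV xV hcl hst'
    refine ⟨Q, ψq ≫ GlueQ.incl U, σ ≫ GlueQ.incl V, ?_, ?_, ?_⟩
    · haveI := het
      show Etale (ψq.left ≫ U.ι)
      infer_instance
    · obtain ⟨t, ht⟩ := hmem
      refine ⟨t, ?_⟩
      show U.ι (ψq.left t) = _
      rw [show ψq.left t = (xV ≫ φV).left pt0 from ht]
      show U.ι ((φ.left ∣_ U) (xV.left pt0)) = φ.left (x.left pt0)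
      rw [← Scheme.Hom.comp_apply (φ.left ∣_ U), morphismRestrict_ι, Scheme.Hom.comp_apply, ← hxV']
      rfl
    · have h1 : IsPullback (GlueQ.incl V) φV φ (GlueQ.incl U) := by
        refine IsPullback.of_map (Over.forget _) (Over.OverMorphism.ext (morphismRestrict_ι φ.left U).symm) ?_
        exact (isPullback_morphismRestrict φ.left U).flip
      have := hsq.paste_horiz h1
      rwa [Category.assoc, GlueQ.resAct_incl, ← MonoidalCategory.whiskerLeft_comp_assoc] at this
  choose Q ψq σ het hmem hsq using hchart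
  refine torsor_of_charts a φ hq.inv (I := 𝟭k ⟶ X) Q ψq σ het ?_ hsq
  intro y
  by_contra hy
  have hopen : IsOpen (⋃ x, Set.range (ψq x).left.base) :=
    isOpen_iUnion fun x => by haveI := het x; exact (ψq x).left.isOpenMap.isOpen_range
  obtain ⟨z, hz⟩ := hq.surj y
  haveI : JacobsonSpace X.left := LocallyOfFiniteType.jacobsonSpace X.hom
  have hW : IsClosed (φ.left.base ⁻¹' (⋃ x, Set.range (ψq x).left.base)ᶜ) :=
    hopen.isClosed_compl.preimage φ.left.continuous
  obtain ⟨c, hcW, hc⟩ := nonempty_inter_closedPoints ⟨z, fun hc => by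
      rw [Set.mem_iUnion] at hc
      exact hy (by rw [← hz]; exact hc)⟩ hW.isLocallyClosed
  let x : 𝟭k ⟶ X := Over.homMk (pointOfClosedPoint X.hom c hc) (pointOfClosedPoint_comp X.hom c hc)
  refine hcW (Set.mem_iUnion.2 ⟨x, ?_⟩)
  rw [show φ.left.base c = (x ≫ φ).left pt0 from
    congrArg φ.left.base (pointOfClosedPoint_apply X.hom c hc _).symm]
  exact hmem x

end

end Groth.Agent.H60.Slice
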