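import Groth.Agent.H60.AffQuot.Geom
import Groth.Prelude.Def_W4c6nonredquotmfGoodQuot

/-!
Base changes of the affine quotient by a linearly reductive group are good quotients.
-/

set_option autoImplicit false

universe u

open CategoryTheory CategoryTheory.Limits MonoidalCategory CartesianMonoidalCategory MonObj AlgebraicGeometry
open Groth.Agent.H60.AffQuot CoactBr

namespace Groth.Agent.H60.Slice

noncomputable section

variable {k : Type u} [Field k] {G X : Over (Spec (CommRingCat.of k))} [GrpObj G] (D : Data G X)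
  (a : AlgGrp.Action G X)

theorem isGoodQuot_baseChange {X' Y' : Over (Spec (CommRingCat.of k))} (pr : X' ⟶ X)
    (φ' : X' ⟶ Y') (g : Y' ⟶ D.Y a) (hpb : IsPullback pr φ' (D.φ a) g) (a' : AlgGrp.Action G X')
    (ha' : a'.act ≫ pr = (G ◁ pr) ≫ a.act) (hinv : GIT.IsInvariant a' φ') : NRQuot.IsGoodQuot a' φ' := by
  have hpb' : IsPullback pr.left φ'.left (D.φ a).left g.left := hpb.map (Over.forget _)
  have H := D.isAvgQuot a pr φ'.left g.left hpb' a'.act.left (by rw [← Over.comp_left, ha'])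
    (GIT.IsInvariant.left hinv)
  haveI : IsAffine X.left := IsAffine.of_isIso (show X.left ⟶ (sp k D.R).left from D.eX.hom.left)
  haveI : IsAffineHom (D.φ a).left := inferInstance
  refine ⟨MorphismProperty.of_isPullback (P := @IsAffineHom) hpb' inferInstance, hinv, ?_, ?_, ?_⟩
  · intro U
    let V := φ'.left ⁻¹ᵁ U
    let Xo : Over (Spec (CommRingCat.of k)) := Over.mk (V.ι ≫ X'.hom)
    let io : Xo ⟶ X' := Over.homMk V.ι rfl
    have hres : IsPullback V.ι (φ'.left ∣_ U) φ'.left U.ι := (isPullback_morphismRestrict φ'.left U).flip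
    have hp : IsPullback (io ≫ pr).left (φ'.left ∣_ U) (D.φ a).left (U.ι ≫ g.left) := hres.paste_horiz hpb'
    have hcomm : ((G ◁ io) ≫ a'.act).left ≫ φ'.left = ((snd G Xo).left ≫ (φ'.left ∣_ U)) ≫ U.ι := by
      rw [Category.assoc, ← hres.w, ← Over.comp_left, ← Category.assoc, show (snd G Xo).left ≫ V.ι =
        (snd G Xo ≫ io).left from rfl, ← Over.comp_left, Category.assoc, hinv, whiskerLeft_snd_assoc, Category.assoc]
    let σ := hres.lift _ _ hcomm
    have hσ₁ : σ ≫ V.ι = ((G ◁ io) ≫ a'.act).left := hres.lift_fst _ _ hcomm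
    have Ho : IsAvgQuot D.α σ (snd G Xo).left (φ'.left ∣_ U) := D.isAvgQuot a (io ≫ pr) _ _ hp σ (by
      rw [Over.comp_left, ← Category.assoc]
      show (σ ≫ V.ι) ≫ pr.left = _
      rw [hσ₁, ← Over.comp_left, Category.assoc, ha', MonoidalCategory.whiskerLeft_comp, Category.assoc])
      (hres.lift_snd _ _ hcomm)
    have hinj : ∀ {O : Scheme.{u}} (χ χ' : U.toScheme ⟶ O),
        (φ'.left ∣_ U) ≫ χ = (φ'.left ∣_ U) ≫ χ' → χ = χ' := fun χ χ' h =>
      Ho.hom_ext (𝟙 _) (by
        rw [show pullback.snd (φ'.left ∣_ U) (𝟙 _) = pullback.fst (φ'.left ∣_ U) (𝟙 _) ≫ (φ'.left ∣_ U) by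
          rw [pullback.condition, Category.comp_id], Category.assoc, Category.assoc, h])
    exact ⟨app_injective φ'.left U hinj, range_app a' φ' hinv U hinj σ hσ₁ (Ho.existsUnique_desc D.geomRed)⟩
  · exact fun W hW hWi => H.isClosed_image D.geomRed hW hWi
  · intro J W hW hWi
    refine Set.Subset.antisymm (Set.image_iInter_subset _ _) fun y hy => ?_
    obtain ⟨R, f, hf, ⟨b, rfl⟩, -⟩ :=
      AlgebraicGeometry.Scheme.exists_affine_mem_range_and_range_subset (U := (⊤ : Y'.left.Opens)) (x := y) trivial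
    haveI := hf
    obtain ⟨c⟩ := H.chart f
    letI := c.algk
    letI := c.h.hom.toAlgebra
    obtain ⟨t, ht, htb⟩ := c.avg.iInter_image D.geomRed (fun i => c.ι ⁻¹' W i) (fun i => (hW i).preimage c.ι.continuous)
      (fun i => c.invSet (hWi i)) (Set.mem_iInter.2 fun i => by
        have hb : b ∈ f ⁻¹' (φ'.left '' W i) := Set.mem_iInter.1 hy i
        rw [c.preimage_image] at hb
        exact hb)
    exact ⟨c.ι t, Set.mem_iInter.2 fun i => Set.mem_iInter.1 ht i, by rw [c.comm]; exact congrArg f htb⟩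

end

end Groth.Agent.H60.Slice
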