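import Groth.Agent.H60.Slice.Setup
import Groth.Agent.H60.BaseChange
import Groth.Agent.H60.CartLoc
import Mathlib.RingTheory.Etale.Basic

/-!
Small lemmas for the étale chart: extending maps over a square that is cartesian after localisation,
base change of an étale algebra along a surjection, equivariance and fibres after localisation.
-/

set_option autoImplicit false
set_option linter.unusedSectionVars false
set_option linter.style.haveILetI false
universe u

open TensorProduct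
open Groth.Agent.Lib.Comod Groth.Agent.Lib.Comod.Basic Groth.Agent.Lib.Comod.Alg

namespace Groth.Agent.H60.Slice

noncomputable section

variable {k : Type u} [Field k]

section Extend

variable {S T S₀ T₀ U : Type u} [CommRing S] [Algebra k S] [CommRing T] [Algebra k T] [Algebra S T]
  [IsScalarTower k S T] [CommRing S₀] [Algebra k S₀] [Algebra S₀ S] [IsScalarTower k S₀ S]
  [CommRing T₀] [Algebra k T₀] [Algebra T₀ T] [IsScalarTower k T₀ T] [Algebra S₀ T₀] [Algebra S₀ T]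
  [IsScalarTower S₀ S T] [IsScalarTower S₀ T₀ T] [CommRing U] [Algebra k U]

/-- Over a square cartesian after localisation, compatible maps extend to the total space. -/
theorem exists_extend (h : T₀)
    (hK : ∀ z : S ⊗[S₀] T₀, LunaCart.mu k S T S₀ T₀ z = 0 → ∃ n : ℕ, ((1 : S) ⊗ₜ[S₀] h) ^ n * z = 0)
    (hC : ∀ t : T, ∃ (n : ℕ) (z : S ⊗[S₀] T₀), LunaCart.mu k S T S₀ T₀ z = algebraMap T₀ T h ^ n * t)
    (a : S →ₐ[k] U) (b : T₀ →+* U) (hab : ∀ s : S₀, a (algebraMap S₀ S s) = b (algebraMap S₀ T₀ s))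
    (hb : IsUnit (b h)) :
    ∃ Ψ : T →ₐ[k] U, (∀ s, Ψ (algebraMap S T s) = a s) ∧ ∀ t, Ψ (algebraMap T₀ T t) = b t := by
  letI : Algebra S₀ U := (b.comp (algebraMap S₀ T₀)).toAlgebra
  let a' : S →ₐ[S₀] U := { toRingHom := a.toRingHom, commutes' := hab }
  let b' : T₀ →ₐ[S₀] U := { toRingHom := b, commutes' := fun _ => rfl }
  let κ : S ⊗[S₀] T₀ →ₐ[S₀] U := Algebra.TensorProduct.lift a' b' fun _ _ => mul_comm _ _
  have hκ : ∀ (s : S) (t : T₀), κ (s ⊗ₜ t) = a s * b t := fun s t => Algebra.TensorProduct.lift_tmul _ _ _ _ _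
  letI := CartLoc.algT (k := k) (S := S) (R := T) (S₀ := S₀) h
  haveI := CartLoc.isLocalization h hK hC
  have hu : IsUnit (κ.toRingHom ((1 : S) ⊗ₜ[S₀] h)) := by
    change IsUnit (κ ((1 : S) ⊗ₜ[S₀] h))
    rwa [hκ, map_one, one_mul]
  let l : Localization.Away (algebraMap T₀ T h) →+* U := IsLocalization.Away.lift ((1 : S) ⊗ₜ[S₀] h) hu
  have hl : ∀ z : S ⊗[S₀] T₀, l (algebraMap T _ (LunaCart.mu k S T S₀ T₀ z)) = κ z := fun z =>
    IsLocalization.Away.lift_eq ((1 : S) ⊗ₜ[S₀] h) hu z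
  refine ⟨{ toRingHom := l.comp (algebraMap T _), commutes' := fun c => ?_ }, fun s => ?_, fun t => ?_⟩
  · change l (algebraMap T _ (algebraMap k T c)) = _
    rw [show algebraMap k T c = LunaCart.mu k S T S₀ T₀ (algebraMap k S c ⊗ₜ 1) by
      rw [LunaCart.mu_tmul, map_one, mul_one, ← IsScalarTower.algebraMap_apply], hl, hκ, map_one, mul_one,
      AlgHom.commutes]
  · change l (algebraMap T _ (algebraMap S T s)) = _
    rw [show algebraMap S T s = LunaCart.mu k S T S₀ T₀ (s ⊗ₜ 1) by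
      rw [LunaCart.mu_tmul, map_one, mul_one], hl, hκ, map_one, mul_one]
  · change l (algebraMap T _ (algebraMap T₀ T t)) = _
    rw [show algebraMap T₀ T t = LunaCart.mu k S T S₀ T₀ (1 ⊗ₜ t) by
      rw [LunaCart.mu_tmul, map_one, one_mul], hl, hκ, map_one, one_mul]

end Extend

/-- Base change of an étale algebra along a surjection, with a point. -/
theorem exists_baseChange {S₀ R₀ C0 : Type u} [CommRing S₀] [CommRing R₀] [Algebra k R₀] [CommRing C0]
    [Algebra S₀ C0] [Algebra.Etale S₀ C0] (π₀ : S₀ →+* R₀) (hπ₀ : Function.Surjective π₀)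
    (x₀ : R₀ →ₐ[k] k) (c₀ : C0 →+* k) (hc : ∀ s, c₀ (algebraMap S₀ C0 s) = x₀ (π₀ s)) :
    ∃ (C : Type u) (_ : CommRing C) (_ : Algebra k C) (_ : Algebra R₀ C) (_ : IsScalarTower k R₀ C)
      (_ : Algebra.Etale R₀ C) (j : C0 →+* C) (c : C →+* k), Function.Surjective j ∧
      (∀ s, j (algebraMap S₀ C0 s) = algebraMap R₀ C (π₀ s)) ∧ (∀ z, c (j z) = c₀ z) ∧
      ∀ r, c (algebraMap R₀ C r) = x₀ r := by
  letI : Algebra S₀ R₀ := π₀.toAlgebra
  letI : Algebra S₀ k := ((x₀ : R₀ →+* k).comp π₀).toAlgebra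
  let a : R₀ →ₐ[S₀] k := { toRingHom := (x₀ : R₀ →+* k), commutes' := fun _ => rfl }
  let b : C0 →ₐ[S₀] k := { toRingHom := c₀, commutes' := hc }
  let l : R₀ ⊗[S₀] C0 →ₐ[S₀] k := Algebra.TensorProduct.lift a b fun _ _ => mul_comm _ _
  have hl : ∀ (r : R₀) (z : C0), l (r ⊗ₜ z) = x₀ r * c₀ z := fun r z => Algebra.TensorProduct.lift_tmul _ _ _ _ _
  refine ⟨R₀ ⊗[S₀] C0, inferInstance, inferInstance, inferInstance, inferInstance, inferInstance,
    (Algebra.TensorProduct.includeRight : C0 →ₐ[S₀] R₀ ⊗[S₀] C0).toRingHom, l.toRingHom, fun y => ?_, fun s => ?_,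
    fun z => ?_, fun r => ?_⟩
  · induction y using TensorProduct.induction_on with
    | zero => exact ⟨0, map_zero _⟩
    | add y z hy hz =>
      obtain ⟨a, rfl⟩ := hy; obtain ⟨b, rfl⟩ := hz
      exact ⟨a + b, map_add _ _ _⟩
    | tmul r z =>
      obtain ⟨s, rfl⟩ := hπ₀ r
      refine ⟨s • z, ?_⟩
      change (1 : R₀) ⊗ₜ[S₀] (s • z) = _
      rw [← TensorProduct.smul_tmul, Algebra.smul_def, mul_one]
      rfl
  · change (1 : R₀) ⊗ₜ[S₀] algebraMap S₀ C0 s = π₀ s ⊗ₜ[S₀] (1 : C0)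
    rw [Algebra.algebraMap_eq_smul_one, ← TensorProduct.smul_tmul, Algebra.smul_def, mul_one]
    rfl
  · change l ((1 : R₀) ⊗ₜ z) = _
    rw [hl, map_one, one_mul]
  · change l (r ⊗ₜ (1 : C0)) = _
    rw [hl, map_one, mul_one]

variable {A : Type u} [CommRing A] [HopfAlgebra k A]

/-- Equivariance after clearing a unit. -/
theorem isComodHom_of_unit {T U : Type u} [CommRing T] [Algebra k T] [HopfRep.Comod k A T] [GLin.IsCoactAlg k A T]
    [CommRing U] [Algebra k U] [HopfRep.Comod k A U] [GLin.IsCoactAlg k A U] (Ψ : T →ₐ[k] U) (s : Set T)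
    (hs : ∀ a ∈ s, HopfRep.Comod.coact (k := k) (A := A) (Ψ a) =
      Algebra.TensorProduct.map Ψ (AlgHom.id k A) (HopfRep.Comod.coact (k := k) (A := A) a))
    (d : T) (hd : d ∈ s) (hdu : IsUnit (Ψ d)) (hgen : ∀ t, ∃ n : ℕ, d ^ n * t ∈ Algebra.adjoin k s) :
    Hoch.IsComodHom A Ψ.toLinearMap := by
  let P : Subalgebra k T := AlgHom.equalizer ((GLin.coactAlgHom k A U).comp Ψ)
    ((Algebra.TensorProduct.map Ψ (AlgHom.id k A)).comp (GLin.coactAlgHom k A T))
  have hP : Algebra.adjoin k s ≤ P := Algebra.adjoin_le fun a ha => hs a ha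
  refine LinearMap.ext fun t => ?_
  obtain ⟨n, hn⟩ := hgen t
  have h1 : GLin.coactAlgHom k A U (Ψ (d ^ n * t)) =
      Algebra.TensorProduct.map Ψ (AlgHom.id k A) (GLin.coactAlgHom k A T (d ^ n * t)) := hP hn
  have h2 : GLin.coactAlgHom k A U (Ψ d) =
      Algebra.TensorProduct.map Ψ (AlgHom.id k A) (GLin.coactAlgHom k A T d) := hs d hd
  simp only [map_mul, map_pow, ← h2] at h1
  have h3 := ((hdu.map (GLin.coactAlgHom k A U)).pow n).mul_left_cancel h1
  simp only [GLin.coactAlgHom_apply] at h3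
  simp only [LinearMap.comp_apply, AlgHom.toLinearMap_apply, h3]
  induction HopfRep.Comod.coact (k := k) (A := A) t using TensorProduct.induction_on with
  | zero => simp
  | add y z hy hz => simp only [map_add, hy, hz]
  | tmul v c => simp

/-- Modulo the fibre ideal every element becomes a function after clearing a denominator. -/
theorem exists_fibre {S T R U : Type u} [CommRing S] [CommRing T] [CommRing R] [CommRing U]
    (θ : S →+* T) (π : S →+* R) (ι : R →+* U) (Ψ : T →+* U) (hθ : ∀ s, Ψ (θ s) = ι (π s))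
    (I : Ideal U) (hI : ∀ t : T, ∃ s : S, Ψ t - Ψ (θ s) ∈ I) (d : T) (hdu : IsUnit (Ψ d))
    (G : Set U) (hG : ∀ c ∈ G, ∃ (n : ℕ) (t : T), Ψ d ^ n * c = Ψ t) :
    ∃ s : R, (∃ v, ι s * v - 1 ∈ I) ∧ (∃ s' : S, π s' = s ∧ Ψ d - Ψ (θ s') ∈ I) ∧
      ∀ y ∈ Subring.closure (Set.range ι ∪ G), ∃ (n : ℕ) (q : R), ι s ^ n * y - ι q ∈ I := by
  obtain ⟨sd, hsd⟩ := hI d
  have hsd' : Ψ d - ι (π sd) ∈ I := hθ sd ▸ hsd
  refine ⟨π sd, ?_, ⟨sd, rfl, hsd⟩, fun y hy => ?_⟩
  · obtain ⟨v, hv⟩ := hdu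
    refine ⟨↑v⁻¹, ?_⟩
    have h := neg_mem (I.mul_mem_left (↑v⁻¹) hsd')
    rw [mul_sub, ← hv, Units.inv_mul, neg_sub, mul_comm] at h
    exact h
  set σ := ι (π sd)
  induction hy using Subring.closure_induction with
  | mem c hc =>
    rcases hc with ⟨q, rfl⟩ | hc
    · exact ⟨0, q, by simp⟩
    · obtain ⟨n, t, ht⟩ := hG c hc
      obtain ⟨st, hst⟩ := hI t
      refine ⟨n, π st, ?_⟩
      rw [← ht, hθ] at hst
      have h3 := Ideal.mem_of_dvd I (sub_dvd_pow_sub_pow (Ψ d) σ n) hsd'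
      have := sub_mem hst (I.mul_mem_right c h3)
      convert this using 1
      ring
  | zero => exact ⟨0, 0, by simp⟩
  | one => exact ⟨0, 1, by simp⟩
  | neg a _ ha =>
    obtain ⟨n, q, hq⟩ := ha
    exact ⟨n, -q, by simpa only [map_neg, mul_neg, neg_sub_neg, neg_sub] using neg_mem hq⟩
  | add a b _ _ ha hb =>
    obtain ⟨n, q, hq⟩ := ha; obtain ⟨m, q', hq'⟩ := hb
    refine ⟨n + m, π sd ^ m * q + π sd ^ n * q', ?_⟩
    rw [map_add, map_mul, map_mul, map_pow, map_pow, show σ ^ (n + m) * (a + b) - (σ ^ m * ι q + σ ^ n * ι q') =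
      σ ^ m * (σ ^ n * a - ι q) + σ ^ n * (σ ^ m * b - ι q') by rw [pow_add]; ring]
    exact add_mem (Ideal.mul_mem_left _ _ hq) (Ideal.mul_mem_left _ _ hq')
  | mul a b _ _ ha hb =>
    obtain ⟨n, q, hq⟩ := ha; obtain ⟨m, q', hq'⟩ := hb
    refine ⟨n + m, q * q', ?_⟩
    rw [map_mul, show σ ^ (n + m) * (a * b) - ι q * ι q' =
      (σ ^ n * a - ι q) * (σ ^ m * b) + ι q * (σ ^ m * b - ι q') by rw [pow_add]; ring]
    exact add_mem (Ideal.mul_mem_right _ _ hq) (Ideal.mul_mem_left _ _ hq')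

end

end Groth.Agent.H60.Slice
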