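import Groth.Agent.H60.Slice.Points
import Groth.Agent.H60.BaseChange
import Groth.Prelude.Def_W4bk4git07Quot

/-!
Pieces of the slice construction: the structure maps of the base change and the immersion of the fibre.
-/

set_option autoImplicit false

universe u

open CategoryTheory CategoryTheory.Limits MonoidalCategory CartesianMonoidalCategory MonObj AlgebraicGeometry TensorProduct CoactBr
open Groth.Agent.H60.AffQuot

namespace Groth.Agent.H60.Slice

noncomputable section

variable {k : Type u} [Field k] {A : Type u} [CommRing A] [HopfAlgebra k A]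
  {G : Over (Spec (CommRingCat.of k))} [GrpObj G] (e : G ≅ sp k A) [IsMonHom e.hom]

/-- An equivariant algebra map gives an equivariant morphism to the scheme of the action. -/
theorem isEquivariant_pt_inv {R : Type u} [CommRing R] [Algebra k R] {X : Over (Spec (CommRingCat.of k))}
    (eX : X ≅ sp k R) (a : AlgGrp.Action G X) {P : Type u} [CommRing P] [Algebra k P] [HopfRep.Comod k A P]
    [GLin.IsCoactAlg k A P] (f : R →ₐ[k] P)
    (hf : letI := rComod e eX a; Hoch.IsComodHom A f.toLinearMap) :
    AlgGrp.Action.IsEquivariant (actP e P) a (pt f ≫ eX.inv) := by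
  letI := rComod e eX a
  haveI := isCoactAlg_rComod e eX a
  show (actP e P).act ≫ pt f ≫ eX.inv = (G ◁ (pt f ≫ eX.inv)) ≫ a.act
  rw [← cancel_mono eX.hom, Category.assoc (G ◁ (pt f ≫ eX.inv)),
    show a.act ≫ eX.hom = (G ◁ eX.hom) ≫ (actP e R).act from isEquivariant_eX e eX a,
    ← MonoidalCategory.whiskerLeft_comp_assoc]
  simp only [Category.assoc, Iso.inv_hom_id, Category.comp_id]
  exact isEquivariant_pt e f hf

/-- An algebra map with fixed image gives an invariant morphism. -/
theorem isInvariant_pt {P : Type u} [CommRing P] [Algebra k P] [HopfRep.Comod k A P] [GLin.IsCoactAlg k A P]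
    {B : Type u} [CommRing B] [Algebra k B] (f : B →ₐ[k] P)
    (hf : ∀ b, HopfRep.Comod.coact (k := k) (A := A) (f b) = f b ⊗ₜ[k] (1 : A)) :
    GIT.IsInvariant (actP e P) (pt f) := by
  refine hom_ext_prodPt e (Iso.refl (sp k P)) ?_
  rw [show xPt (Iso.refl (sp k P)) (Algebra.TensorProduct.includeRight : P →ₐ[k] A ⊗[k] P) =
      pt Algebra.TensorProduct.includeRight from Category.comp_id _,
    ← Category.assoc, act_actP, lift_snd_assoc, ← pt_comp, ← pt_comp]
  congr 1
  refine AlgHom.ext fun b => ?_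
  simp [hf b]

theorem coact_one_tmul {S₀ S C : Type u} [CommRing S₀] [Algebra k S₀] [CommRing S] [Algebra k S] [Algebra S₀ S]
    [IsScalarTower k S₀ S] [CommRing C] [Algebra S₀ C] [HopfRep.Comod k A S] [GLin.IsCoactAlg k A S]
    (hfix : ∀ s₀ : S₀, algebraMap S₀ S s₀ ∈ HopfRep.fixedPts k A S) (b : C) :
    letI := BaseChange.comod (R₀ := C) (A := A) hfix
    HopfRep.Comod.coact (k := k) (A := A) ((1 : S) ⊗ₜ[S₀] b) = ((1 : S) ⊗ₜ[S₀] b) ⊗ₜ[k] (1 : A) := by
  letI := BaseChange.comod (R₀ := C) (A := A) hfix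
  change BaseChange.coactHom (A := A) hfix (BaseChange.incl (k := k) b (1 : S)) = _
  rw [BaseChange.coactHom_incl, GLin.IsCoactAlg.coact_one (k := k), Algebra.TensorProduct.one_def,
    LinearMap.rTensor_tmul]
  rfl

/-- A quotient generated by a localisation gives an immersion. -/
theorem isImmersion_pt {R Q : Type u} [CommRing R] [Algebra k R] [CommRing Q] [Algebra k Q] (φ : R →ₐ[k] Q) (s : R)
    (hu : IsUnit (φ s)) (hgen : ∀ y, ∃ (n : ℕ) (q : R), φ s ^ n * y = φ q) : IsImmersion (pt φ).left := by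
  let L : Localization.Away s →+* Q := IsLocalization.Away.lift s (g := φ.toRingHom) hu
  have hL : L.comp (algebraMap R (Localization.Away s)) = φ.toRingHom := IsLocalization.Away.lift_comp s hu
  have hLs : Function.Surjective L := by
    intro y
    obtain ⟨n, q, hq⟩ := hgen y
    refine ⟨IsLocalization.mk' (Localization.Away s) q (⟨s ^ n, n, rfl⟩ : Submonoid.powers s), ?_⟩
    refine (hu.pow n).mul_left_cancel ?_
    rw [hq]
    show φ.toRingHom s ^ n * _ = φ.toRingHom q
    rw [← map_pow, ← RingHom.congr_fun hL (s ^ n), RingHom.comp_apply, ← map_mul]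
    exact (congrArg L (IsLocalization.mk'_spec' (Localization.Away s) q (⟨s ^ n, n, rfl⟩ : Submonoid.powers s))).trans
      (RingHom.congr_fun hL q)
  haveI : IsClosedImmersion (Spec.map (CommRingCat.ofHom L)) := IsClosedImmersion.spec_of_surjective _ hLs
  haveI : IsOpenImmersion (Spec.map (CommRingCat.ofHom (algebraMap R (Localization.Away s)))) :=
    IsOpenImmersion.of_isLocalization s
  show IsImmersion (Spec.map (CommRingCat.ofHom φ.toRingHom))
  rw [← hL, CommRingCat.ofHom_comp, Spec.map_comp]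
  infer_instance

/-- The fibre is immersed when a function invertible on it makes it generated by the functions below. -/
theorem isImmersion_fibre {R T : Type u} [CommRing R] [Algebra k R] [CommRing T] [Algebra k T]
    {X : Over (Spec (CommRingCat.of k))} (eX : X ≅ sp k R) (inL : R →ₐ[k] T) (I : Ideal T) (s : R)
    (hv : ∃ v, inL s * v - 1 ∈ I) (hgen : ∀ y, ∃ (n : ℕ) (q : R), inL s ^ n * y - inL q ∈ I) :
    IsImmersion (pt (Ideal.Quotient.mkₐ k I) ≫ pt inL ≫ eX.inv).left := by
  obtain ⟨v, hv⟩ := hv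
  have hv' : Ideal.Quotient.mk I (inL s) * Ideal.Quotient.mk I v = 1 := by
    rw [← map_mul, ← map_one (Ideal.Quotient.mk I), Ideal.Quotient.eq]
    exact hv
  have h : IsImmersion (pt ((Ideal.Quotient.mkₐ k I).comp inL)).left :=
    isImmersion_pt _ s (IsUnit.of_mul_eq_one (Ideal.Quotient.mk I v) hv') fun y => by
      obtain ⟨y, rfl⟩ := Ideal.Quotient.mk_surjective y
      obtain ⟨n, q, hq⟩ := hgen y
      refine ⟨n, q, ?_⟩
      show Ideal.Quotient.mk I (inL s) ^ n * Ideal.Quotient.mk I y = Ideal.Quotient.mk I (inL q)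
      rw [← map_pow, ← map_mul, Ideal.Quotient.eq]
      exact hq
  haveI : IsIso eX.inv.left := ((Over.forget _).mapIso eX).isIso_inv
  haveI := h
  rw [← Category.assoc, ← pt_comp, Over.comp_left]
  infer_instance

/-- The range of the point of a quotient. -/
theorem pointOf_fibre {R T : Type u} [CommRing R] [Algebra k R] [CommRing T] [Algebra k T]
    {X : Over (Spec (CommRingCat.of k))} (eX : X ≅ sp k R) (inL : R →ₐ[k] T) (I : Ideal T) (z : T →ₐ[k] k)
    (hz : ∀ t ∈ I, z t = 0) (x₀ : R →ₐ[k] k) (hx₀ : ∀ q, z (inL q) = x₀ q) :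
    pointOf (Ideal.Quotient.liftₐ I z hz) ≫ pt (Ideal.Quotient.mkₐ k I) ≫ pt inL ≫ eX.inv = pointOf x₀ ≫ eX.inv := by
  rw [← Category.assoc (pt (Ideal.Quotient.mkₐ k I)), ← pt_comp, ← Category.assoc, ← pointOf_comp]
  congr 2
  exact AlgHom.ext hx₀

end

end Groth.Agent.H60.Slice
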