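import Groth.Agent.H60.Slice.Points
import Groth.Agent.H60.Slice.GoodBC
import Groth.Agent.H60.Slice.Pieces
import Groth.Agent.H60.Slice.BalFib
import Groth.Agent.H60.AffQuot.GeomIff
import Groth.Agent.H60.GitQuot.Geom
import Groth.Agent.H60.RedLR.Semisimplify
import Groth.Agent.H1.Obs.Eigen

/-!
The étale slice at a point with closed orbit.
-/

set_option autoImplicit false
set_option backward.isDefEq.respectTransparency false

universe u

open CategoryTheory CategoryTheory.Limits MonoidalCategory CartesianMonoidalCategory MonObj AlgebraicGeometry TensorProduct CoactBr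
open Groth.Agent.H60.AffQuot

namespace Groth.Agent.H60.Slice

noncomputable section

variable {k : Type u} [Field k]

/-- A good quotient is a categorical quotient. -/
theorem isCatQuot_of_isGoodQuot {G X Y : Over (Spec (CommRingCat.of k))} [GrpObj G] {a : AlgGrp.Action G X}
    {π : X ⟶ Y} (hπ : NRQuot.IsGoodQuot a π) : GIT.IsCatQuot a π :=
  GitQuot.isCatQuot hπ.inv hπ.sections (fun W hW h => hπ.closed W hW fun p hp => h ⟨p, hp, rfl⟩)
    fun J W hW => hπ.inter J W (fun i => (hW i).1) fun i p hp => (hW i).2 ⟨p, hp, rfl⟩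

/-- The base change of the affine quotient along an algebra over the invariants. -/
theorem exists_square {G X : Over (Spec (CommRingCat.of k))} [GrpObj G] (D : Data G X) (a : AlgGrp.Action G X)
    (S : Subalgebra k D.R) (hS : S = D.inv a) (C : Type u) [CommRing C] [Algebra k C] [Algebra S C]
    [IsScalarTower k S C] [Algebra.Etale S C] :
    ∃ g : sp k C ⟶ D.Y a, Etale g.left ∧
      IsPullback (pt (Algebra.TensorProduct.includeLeft : D.R →ₐ[k] D.R ⊗[S] C) ≫ D.eX.inv)
        (pt ((Algebra.TensorProduct.includeRight : C →ₐ[S] D.R ⊗[S] C).restrictScalars k)) (D.φ a) g := by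
  subst hS
  refine ⟨pt (IsScalarTower.toAlgHom k (D.inv a) C), ?_, ?_⟩
  · show Etale (Spec.map (CommRingCat.ofHom (algebraMap (D.inv a) C)))
    rw [HasRingHomProperty.Spec_iff (P := @Etale)]
    exact RingHom.etale_algebraMap.2 inferInstance
  · have hsq : IsPullback (pt (Algebra.TensorProduct.includeLeft : D.R →ₐ[k] D.R ⊗[D.inv a] C))
        (pt ((Algebra.TensorProduct.includeRight : C →ₐ[D.inv a] D.R ⊗[D.inv a] C).restrictScalars k))
        (pt (D.inv a).val) (pt (IsScalarTower.toAlgHom k (D.inv a) C)) := by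
      have hpo := CommRingCat.isPushout_tensorProduct (D.inv a) D.R C
      have hl := isPullback_SpecMap_of_isPushout _ _ _ _ hpo
      refine IsPullback.of_map (Over.forget _) (Over.OverMorphism.ext ?_) ?_
      · exact hl.w
      · exact hl
    have hsq2 : IsPullback D.eX.inv (pt (D.inv a).val) (D.φ a) (𝟙 (D.Y a)) :=
      IsPullback.of_horiz_isIso ⟨by
        rw [Category.comp_id]
        exact Iso.inv_hom_id_assoc D.eX _⟩
    have := hsq.paste_horiz hsq2
    rwa [Category.comp_id] at this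

/-- The image of a base change is the preimage of the image of the base. -/
theorem range_eq_preimage {W X Q Y : Scheme.{u}} {ψ : W ⟶ X} {p : W ⟶ Q} {f : X ⟶ Y} {g : Q ⟶ Y}
    (h : IsPullback ψ p f g) : Set.range ψ.base = f.base ⁻¹' Set.range g.base := by
  ext x
  constructor
  · rintro ⟨w, rfl⟩
    exact ⟨p w, by rw [← Scheme.Hom.comp_apply, ← h.w, Scheme.Hom.comp_apply]⟩
  · rintro ⟨q, hq⟩
    obtain ⟨w, hw, -⟩ := Scheme.exists_preimage_of_isPullback h x q hq.symm
    exact ⟨w, hw⟩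

theorem exists_etale_slice [IsAlgClosed k] [CharZero k]
    (G X Y : Over (Spec (CommRingCat.of k))) [GrpObj G] (hG : Red.IsReductiveOver k G)
    [IsAffine X.left] [LocallyOfFiniteType X.hom]
    (a : AlgGrp.Action G X) (π : X ⟶ Y) (hπ : NRQuot.IsGoodQuot a π)
    (x : 𝟙_ (Over (Spec (CommRingCat.of k))) ⟶ X) (hx : IsClosed (Set.range (a.orbitMap x).left.base))
    (H : Over (Spec (CommRingCat.of k))) [GrpObj H] (i : H ⟶ G) [IsMonHom i]
    (hH : IsPullback i (toUnit H) (a.orbitMap x) x) :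
    ∃ (V W Q : Over (Spec (CommRingCat.of k))) (incl : V ⟶ X) (v : 𝟙_ (Over (Spec (CommRingCat.of k))) ⟶ V) (aV : AlgGrp.Action H V)
      (aW : AlgGrp.Action G W) (j : G ⊗ V ⟶ W) (ψ : W ⟶ X) (πW : W ⟶ Q) (ψq : Q ⟶ Y),
      IsImmersion incl.left ∧ IsAffine V.left ∧ v ≫ incl = x ∧
      aV.act ≫ incl = (H ◁ incl) ≫ (a.restrict i).act ∧
      GIT.IsCatQuot (ChGrp.twist i aV) j ∧ ChGrp.IsBalProd Scheme.fppfPrecoverage i aV aW j ∧
      j ≫ ψ = (G ◁ incl) ≫ a.act ∧ AlgGrp.Action.IsEquivariant aW a ψ ∧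
      NRQuot.IsGoodQuot aW πW ∧ πW ≫ ψq = ψ ≫ π ∧
      IsOpen (Set.range ψ.left.base) ∧
      π.left.base ⁻¹' (π.left.base '' Set.range ψ.left.base) = Set.range ψ.left.base ∧
      AlgebraicGeometry.Etale ψq.left ∧ IsPullback ψ πW π ψq := by
  classical
  -- the algebra
  haveI : IsAffine G.left := hG.1
  obtain ⟨A, _, _, e, he⟩ := Groth.Agent.H1.Hopf.exists_iso G
  haveI := he
  obtain ⟨R, _, _, ⟨eX⟩⟩ := exists_iso_sp X
  have hA := RedLR.isReductiveOver_congr e hG
  haveI : Smooth (sp k A).hom := hA.2.1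
  haveI : ConnectedSpace (sp k A).left := hA.2.2.1
  haveI : IsAffine (sp k A).left := hA.1
  haveI : Algebra.FiniteType k A := Groth.Agent.H1.Hopf.finiteType_of_locallyOfFiniteType inferInstance
  haveI : IsDomain A := by
    haveI : IsDomain Γ(Spec (CommRingCat.of A), ⊤) := Groth.Agent.H1.Obs.isDomain_functions (sp k A)
    exact (Scheme.ΓSpecIso (CommRingCat.of A)).symm.commRingCatIsoToRingEquiv.toMulEquiv.isDomain _
  have hLR : HopfRep.IsLinearlyReductive k A := RedLR.isLinearlyReductive_of_isReductiveOver hA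
  haveI : Algebra.FiniteType k R := by
    haveI : IsIso eX.inv.left := ((Over.forget _).mapIso eX).isIso_inv
    refine Groth.Agent.H1.Hopf.finiteType_of_locallyOfFiniteType ?_
    rw [← Over.w eX.inv]
    infer_instance
  obtain ⟨α, h1α, hα⟩ := (Groth.Agent.H66.Tame.hasIntegral_iff (k := k) (A := A)).2 hLR
  let D : Data G X := { A := A, R := R, e := e, eX := eX, α := α, h1 := h1α, hα := hα, lr := hLR, geomRed := geomRed k A }
  letI := rComod e eX a
  haveI := isCoactAlg_rComod e eX a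
  have hinv : GLin.invariants k A R = D.inv a := SetLike.ext fun r => rcoact_eq_iff e eX a r
  -- the point
  obtain ⟨x₀, hx₀⟩ := exists_pointOf (x ≫ eX.hom)
  have hxx : x = pointOf x₀ ≫ eX.inv := by rw [hx₀, Category.assoc, Iso.hom_inv_id, Category.comp_id]
  have hco : GLin.IsClosedOrbit k A x₀ := isClosedOrbit e eX a x₀ (by rw [← hxx]; exact hx)
  obtain ⟨C, _, _, _, _, hCet, ρ, z, hρ, hzq, hzρ, s, hs, ⟨v, hv⟩, hgen⟩ := exists_slice hLR x₀ hco
  haveI := hCet
  have hfix : ∀ s₀ : GLin.invariants k A R, algebraMap _ R s₀ ∈ HopfRep.fixedPts k A R := fun s₀ => s₀.2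
  have hρ' := hρ hfix
  letI := BaseChange.comod (R₀ := C) (A := A) hfix
  haveI := BaseChange.isCoactAlg (R₀ := C) (A := A) hfix
  let K := Groth.Agent.Lib.Comod.Orbits.orbitKer (A := A) x₀
  letI : HopfRep.Comod k A (R ⧸ K) := Groth.Agent.Lib.Comod.Basic.quotComod (K.restrictScalars k)
    (Groth.Agent.Lib.Comod.Orbits.isSubcomod_orbitKer x₀)
  obtain ⟨hcO, hmk⟩ := isCoactAlg_quot (P := R) K (Groth.Agent.Lib.Comod.Orbits.isSubcomod_orbitKer x₀)
  haveI := hcO
  let T := R ⊗[GLin.invariants k A R] C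
  let O := sp k (R ⧸ K)
  let o := pointOf (orbitPt (A := A) x₀)
  let aO := actP e (R ⧸ K)
  let aW := actP e T
  -- the stabilizer
  let ιO : O ⟶ X := pt (Ideal.Quotient.mkₐ k K) ≫ eX.inv
  have hoι : o ≫ ιO = x := by
    rw [hxx, ← Category.assoc, ← pointOf_comp]
    rfl
  have horb : aO.orbitMap o ≫ ιO = a.orbitMap x := by
    rw [← cancel_mono eX.hom, hxx, orbitMap_eX e eX a, ← orbit_homogeneous e x₀ hmk]
    simp only [ιO, Category.assoc, Iso.inv_hom_id, Category.comp_id]
    rfl
  haveI : Mono ιO := by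
    haveI : IsClosedImmersion (Spec.map (CommRingCat.ofHom (Ideal.Quotient.mk K))) :=
      IsClosedImmersion.spec_of_surjective _ Ideal.Quotient.mk_surjective
    haveI : Mono (pt (Ideal.Quotient.mkₐ k K)).left :=
      inferInstanceAs (Mono (Spec.map (CommRingCat.ofHom (Ideal.Quotient.mk K))))
    haveI : Mono (pt (Ideal.Quotient.mkₐ k K)) := (Over.forget _).mono_of_mono_map this
    exact mono_comp _ _
  have hstab : IsPullback i (toUnit H) (aO.orbitMap o) o := by
    have w : i ≫ aO.orbitMap o = toUnit H ≫ o := by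
      rw [← cancel_mono ιO, Category.assoc, Category.assoc, horb, hoι, hH.w]
    refine ⟨⟨w⟩, ⟨PullbackCone.IsLimit.mk w (fun c => hH.lift c.fst c.snd
      (by rw [← horb, ← hoι, ← Category.assoc _ (aO.orbitMap o), ← Category.assoc _ o, c.condition]))
      (fun c => hH.lift_fst _ _ _) (fun c => hH.lift_snd _ _ _)
      fun c m h1 h2 => hH.hom_ext (by rw [hH.lift_fst, h1]) (by rw [hH.lift_snd, h2])⟩⟩
  obtain ⟨hflat, hlfp, hsurj⟩ := orbit_props e x₀ hco hmk
  haveI : Flat (aO.orbitMap o).left := hflat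
  haveI : LocallyOfFinitePresentation (aO.orbitMap o).left := hlfp
  haveI : Surjective (aO.orbitMap o).left := hsurj
  -- the fibre
  let I : Ideal T := (RingHom.ker (orbitPt (A := A) x₀)).map ρ
  let inc : sp k (T ⧸ I) ⟶ sp k T := pt (Ideal.Quotient.mkₐ k I)
  have hr : AlgGrp.Action.IsEquivariant aW aO (pt ρ) := isEquivariant_pt e ρ hρ'
  obtain ⟨aV, haV, hbal, hcat⟩ := exists_balProd i aO o hstab aW (pt ρ) hr inc (isPullback_fibre ρ (orbitPt x₀))
  -- the map to the space
  let inL : R →ₐ[k] T := Algebra.TensorProduct.includeLeft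
  have hinL : Hoch.IsComodHom A inL.toLinearMap := BaseChange.isComodHom_incl hfix (1 : C)
  let ψ : sp k T ⟶ X := pt inL ≫ eX.inv
  have hψ : AlgGrp.Action.IsEquivariant aW a ψ := isEquivariant_pt_inv e eX a inL hinL
  let inR : C →ₐ[k] T := (Algebra.TensorProduct.includeRight : C →ₐ[GLin.invariants k A R] T).restrictScalars k
  have hπW : GIT.IsInvariant aW (pt inR) := isInvariant_pt e inR fun b => coact_one_tmul hfix b
  -- the quotient
  obtain ⟨g, hget, hgsq⟩ := exists_square D a (GLin.invariants k A R) hinv C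
  obtain ⟨iY, hiY⟩ := exists_iso_of_isCatQuot (isCatQuot_of_isGoodQuot hπ)
    (D.isCatQuot a (D.φ a) (D.invariant a) (D.isAvgQuot_self a))
  let ψq : sp k C ⟶ Y := g ≫ iY.hom
  have hgood : NRQuot.IsGoodQuot aW (pt inR) := isGoodQuot_baseChange D a ψ (pt inR) g hgsq aW hψ hπW
  have hsq : IsPullback ψ (pt inR) π ψq := by
    have h2 : IsPullback g (𝟙 (sp k C)) iY.hom ψq := IsPullback.of_vert_isIso ⟨by simp [ψq]⟩
    have h := hgsq.paste_vert h2
    rw [Category.comp_id, hiY] at h
    exact h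
  haveI : Etale g.left := hget
  haveI : IsIso iY.hom.left := ((Over.forget _).mapIso iY).isIso_hom
  haveI hψq : Etale ψq.left := by
    show Etale (g.left ≫ iY.hom.left)
    infer_instance
  have hrange := range_eq_preimage (hsq.map (Over.forget _))
  change Set.range ψ.left.base = π.left.base ⁻¹' Set.range ψq.left.base at hrange
  -- the immersion
  have himm : IsImmersion (inc ≫ ψ).left := isImmersion_fibre eX inL I s ⟨v, hv⟩ hgen
  -- the point of the slice
  have hIz : ∀ t ∈ I, z t = 0 := by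
    have hle : I ≤ RingHom.ker z := by
      refine Ideal.map_le_iff_le_comap.2 fun c hc => ?_
      rw [Ideal.mem_comap, RingHom.mem_ker, ← AlgHom.comp_apply, hzρ]
      exact hc
    exact fun t ht => RingHom.mem_ker.1 (hle ht)
  let z' : T ⧸ I →ₐ[k] k := Ideal.Quotient.liftₐ I z hIz
  refine ⟨sp k (T ⧸ I), sp k T, sp k C, inc ≫ ψ, pointOf z', aV, aW, (G ◁ inc) ≫ aW.act, ψ, pt inR, ψq, himm,
    inferInstanceAs (IsAffine (Spec _)), ?_, ?_, hcat, hbal, ?_, hψ, hgood, hsq.w.symm, ?_, ?_, hψq, hsq⟩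
  · rw [hxx]
    exact pointOf_fibre eX inL I z hIz x₀ hzq
  · refine AlgGrp.Action.hom_ext_lift₂ fun S h w => ?_
    rw [← Category.assoc aV.act, haV, lift_whiskerLeft_assoc, Category.assoc, lift_whiskerLeft_assoc,
      AlgGrp.Action.lift_restrict_act, ← Category.assoc (lift h (w ≫ inc)), AlgGrp.Action.lift_restrict_act,
      Category.assoc, show aW.act ≫ ψ = (G ◁ ψ) ≫ a.act from hψ, lift_whiskerLeft_assoc, Category.assoc]
  · rw [Category.assoc, show aW.act ≫ ψ = (G ◁ ψ) ≫ a.act from hψ, ← MonoidalCategory.whiskerLeft_comp_assoc]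
  · rw [hrange]
    exact ψq.left.isOpenMap.isOpen_range.preimage π.left.continuous
  · rw [hrange]
    refine Set.Subset.antisymm ?_ (Set.subset_preimage_image _ _)
    rintro p ⟨q, hq, hqp⟩
    obtain ⟨r, hr'⟩ := hq
    exact ⟨r, hr'.trans hqp⟩

end

end Groth.Agent.H60.Slice
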