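import Groth.Agent.H60.Slice.Affine
import Groth.Agent.H60.Slice.Core
import Groth.Agent.Lib.Homog.Orbit
import Mathlib.AlgebraicGeometry.Noetherian
import Mathlib.CategoryTheory.Limits.Constructions.Over.Connected

/-!
Rational points of affine schemes, their orbit maps, and fibres over them.
-/

set_option autoImplicit false

universe u

open CategoryTheory CategoryTheory.Limits MonoidalCategory CartesianMonoidalCategory MonObj AlgebraicGeometry TensorProduct CoactBr
open Groth.Agent.H60.AffQuot

namespace Groth.Agent.H60.Slice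

noncomputable section

variable {k : Type u} [Field k]

instance isIso_toUnit_sp : IsIso (toUnit (sp k k)) := by
  haveI : IsIso ((Over.forget _).map (toUnit (sp k k))) := by
    have h : (toUnit (sp k k)).left = Spec.map (𝟙 (CommRingCat.of k)) := by
      have := Over.w (toUnit (sp k k))
      simp only [Over.tensorUnit_hom] at this
      exact (Category.comp_id _).symm.trans this
    show IsIso (toUnit (sp k k)).left
    rw [h, Spec.map_id]; exact IsIso.id _
  exact isIso_of_reflects_iso _ (Over.forget _)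

/-- The point of an algebra map to the ground field. -/
def pointOf {P : Type u} [CommRing P] [Algebra k P] (y : P →ₐ[k] k) : 𝟙_ (Over (Spec (CommRingCat.of k))) ⟶ sp k P :=
  inv (toUnit (sp k k)) ≫ pt y

theorem toUnit_pointOf {P : Type u} [CommRing P] [Algebra k P] (y : P →ₐ[k] k) :
    toUnit (sp k k) ≫ pointOf y = pt y := IsIso.hom_inv_id_assoc _ _

theorem pointOf_comp {P Q : Type u} [CommRing P] [Algebra k P] [CommRing Q] [Algebra k Q] (y : Q →ₐ[k] k)
    (f : P →ₐ[k] Q) : pointOf (y.comp f) = pointOf y ≫ pt f := by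
  rw [pointOf, pointOf, pt_comp, Category.assoc]

theorem exists_pointOf {P : Type u} [CommRing P] [Algebra k P]
    (o : 𝟙_ (Over (Spec (CommRingCat.of k))) ⟶ sp k P) : ∃ y : P →ₐ[k] k, pointOf y = o := by
  obtain ⟨y, hy⟩ := exists_pt (toUnit (sp k k) ≫ o)
  exact ⟨y, by rw [pointOf, hy, IsIso.inv_hom_id_assoc]⟩

theorem pointOf_left {P : Type u} [CommRing P] [Algebra k P] (y : P →ₐ[k] k) :
    (pointOf y).left = Spec.map (CommRingCat.ofHom y.toRingHom) := by
  have h : (toUnit (sp k k)).left = 𝟙 _ := by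
    have := Over.w (toUnit (sp k k))
    simp only [Over.tensorUnit_hom] at this
    exact (Category.comp_id _).symm.trans (this.trans (Spec.map_id _))
  have := congrArg (fun m => Over.Hom.left m) (toUnit_pointOf y)
  simp only [Over.comp_left, pt_left, h] at this
  exact (Category.id_comp _).symm.trans this

/-- The fibre over a rational point is the quotient by the ideal it generates. -/
theorem isPullback_fibre {O T : Type u} [CommRing O] [Algebra k O] [CommRing T] [Algebra k T] (f : O →ₐ[k] T)
    (y : O →ₐ[k] k) :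
    IsPullback (pt (Ideal.Quotient.mkₐ k ((RingHom.ker y).map f))) (toUnit _) (pt f) (pointOf y) := by
  let J := (RingHom.ker y).map f
  have hc : ∀ c : O, f c - algebraMap k T (y c) ∈ J := fun c => by
    rw [← f.commutes, ← map_sub]
    exact Ideal.mem_map_of_mem f (by simp [RingHom.mem_ker])
  have sq : CommRingCat.ofHom f.toRingHom ≫ CommRingCat.ofHom (Ideal.Quotient.mkₐ k J).toRingHom =
      CommRingCat.ofHom y.toRingHom ≫ CommRingCat.ofHom (algebraMap k (T ⧸ J)) :=
    CommRingCat.hom_ext (RingHom.ext fun c => Ideal.Quotient.eq.2 (hc c))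
  have hpo : IsPushout (CommRingCat.ofHom f.toRingHom) (CommRingCat.ofHom y.toRingHom)
      (CommRingCat.ofHom (Ideal.Quotient.mkₐ k J).toRingHom) (CommRingCat.ofHom (algebraMap k (T ⧸ J))) := by
    refine ⟨⟨sq⟩, ⟨PushoutCocone.IsColimit.mk sq (fun s => CommRingCat.ofHom (Ideal.Quotient.lift J s.inl.hom ?_))
      (fun s => ?_) (fun s => ?_) fun s m h1 h2 => ?_⟩⟩
    · intro t ht
      refine (RingHom.mem_ker).1 ((Ideal.map_le_iff_le_comap.2 fun c hc => ?_) ht)
      show s.inl.hom (f c) = 0
      refine (congrArg (fun m => m.hom c) s.condition).trans ?_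
      show s.inr.hom (y c) = 0
      rw [(RingHom.mem_ker).1 hc, map_zero]
    · exact CommRingCat.hom_ext (RingHom.ext fun t => rfl)
    · refine CommRingCat.hom_ext (RingHom.ext fun c => ?_)
      show s.inl.hom (algebraMap k T c) = s.inr.hom c
      rw [← f.commutes]
      refine (congrArg (fun m => m.hom (algebraMap k O c)) s.condition).trans ?_
      show s.inr.hom (y (algebraMap k O c)) = s.inr.hom c
      rw [AlgHom.commutes]; rfl
    · refine CommRingCat.hom_ext (Ideal.Quotient.ringHom_ext (RingHom.ext fun t => ?_))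
      exact congrArg (fun m => m.hom t) h1
  refine IsPullback.of_map (Over.forget _) ?_ ?_
  · refine Over.OverMorphism.ext ?_
    rw [Over.comp_left, Over.comp_left, pointOf_left]
    exact (isPullback_SpecMap_of_isPushout _ _ _ _ hpo).w
  · show IsPullback (pt (Ideal.Quotient.mkₐ k J)).left (toUnit (sp k (T ⧸ J))).left (pt f).left (pointOf y).left
    rw [pointOf_left, show (toUnit (sp k (T ⧸ J))).left = Spec.map (CommRingCat.ofHom (algebraMap k (T ⧸ J))) from by
      have := Over.w (toUnit (sp k (T ⧸ J)))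
      simp only [Over.tensorUnit_hom] at this
      exact (Category.comp_id _).symm.trans this]
    exact isPullback_SpecMap_of_isPushout _ _ _ _ hpo

variable {A : Type u} [CommRing A] [HopfAlgebra k A]
  {G : Over (Spec (CommRingCat.of k))} [GrpObj G] (e : G ≅ sp k A) [IsMonHom e.hom]

section Orbit

variable {P : Type u} [CommRing P] [Algebra k P] [HopfRep.Comod k A P] [GLin.IsCoactAlg k A P] (y : P →ₐ[k] k)

theorem orbitMap_actP :
    (actP e P).orbitMap (pointOf y) =
      e.hom ≫ pt ((HopfAlgebra.antipodeAlgHom k A).comp (GLin.orbitHom k A y)) := by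
  have h := comp_orbitMap_actP e y (pointOf y) (toUnit_pointOf y) (AlgHom.id k A)
  rw [gPt, pt_id, Category.id_comp, AlgHom.id_comp] at h
  rw [← h, Iso.hom_inv_id_assoc]

/-- The orbit map and the map to the coordinate ring of the group have the same image. -/
theorem range_orbitMap_actP :
    Set.range ((actP e P).orbitMap (pointOf y)).left.base =
      Set.range (PrimeSpectrum.comap (GLin.orbitHom k A y).toRingHom) := by
  have hS : IsIso (pt (HopfAlgebra.antipodeAlgHom k A)) := by
    have h2 : pt (HopfAlgebra.antipodeAlgHom k A) ≫ pt (HopfAlgebra.antipodeAlgHom k A) = 𝟙 _ := by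
      rw [← pt_comp, antipode_comp_antipode, pt_id]
    exact ⟨_, h2, h2⟩
  haveI := hS
  rw [orbitMap_actP, pt_comp, ← Category.assoc]
  haveI : IsIso (e.hom ≫ pt (HopfAlgebra.antipodeAlgHom k A)).left :=
    ((Over.forget _).mapIso (asIso (e.hom ≫ pt (HopfAlgebra.antipodeAlgHom k A)))).isIso_hom
  rw [Over.comp_left, Scheme.Hom.comp_base, TopCat.coe_comp,
    (e.hom ≫ pt (HopfAlgebra.antipodeAlgHom k A)).left.surjective.range_comp]
  rfl

end Orbit

variable {R : Type u} [CommRing R] [Algebra k R] {X : Over (Spec (CommRingCat.of k))} (eX : X ≅ sp k R)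
  (a : AlgGrp.Action G X)

theorem orbitMap_eX (x₀ : R →ₐ[k] k) :
    letI := rComod e eX a
    haveI := isCoactAlg_rComod e eX a
    a.orbitMap (pointOf x₀ ≫ eX.inv) ≫ eX.hom = (actP e R).orbitMap (pointOf x₀) := by
  letI := rComod e eX a
  haveI := isCoactAlg_rComod e eX a
  rw [AlgGrp.Action.orbitMap, AlgGrp.Action.orbitMap, Category.assoc,
    show a.act ≫ eX.hom = (G ◁ eX.hom) ≫ (actP e R).act from isEquivariant_eX e eX a, lift_whiskerLeft_assoc,
    Category.assoc, Category.assoc, Iso.inv_hom_id, Category.comp_id]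

theorem isClosedOrbit (x₀ : R →ₐ[k] k) (hx : IsClosed (Set.range (a.orbitMap (pointOf x₀ ≫ eX.inv)).left.base)) :
    letI := rComod e eX a
    haveI := isCoactAlg_rComod e eX a
    GLin.IsClosedOrbit k A x₀ := by
  letI := rComod e eX a
  haveI := isCoactAlg_rComod e eX a
  show IsClosed _
  rw [← range_orbitMap_actP e x₀, ← orbitMap_eX e eX a, Over.comp_left, Scheme.Hom.comp_base, TopCat.coe_comp,
    Set.range_comp]
  haveI : IsIso eX.hom.left := ((Over.forget _).mapIso eX).isIso_hom
  exact eX.hom.left.isClosedEmbedding.isClosedMap _ hx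

section ClosedOrbit

variable [HopfRep.Comod k A R] [GLin.IsCoactAlg k A R] [IsDomain A] [Algebra.FiniteType k A]
  [Algebra.FiniteType k R] (x₀ : R →ₐ[k] k) (hx : GLin.IsClosedOrbit k A x₀)

open Groth.Agent.Lib.Comod.Orbits

/-- The functions on a closed orbit form a homogeneous space of the group. -/
theorem orbit_homogeneous [HopfRep.Comod k A (R ⧸ orbitKer (A := A) x₀)]
    [GLin.IsCoactAlg k A (R ⧸ orbitKer (A := A) x₀)]
    (hmk : Hoch.IsComodHom A (Ideal.Quotient.mkₐ k (orbitKer (A := A) x₀)).toLinearMap) :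
    (actP e (R ⧸ orbitKer (A := A) x₀)).orbitMap (pointOf (orbitPt x₀)) ≫ pt (Ideal.Quotient.mkₐ k _) =
      (actP e R).orbitMap (pointOf x₀) := by
  have hx₀ : pointOf (orbitPt (A := A) x₀) ≫ pt (Ideal.Quotient.mkₐ k _) = pointOf x₀ := by
    rw [← pointOf_comp]; rfl
  rw [AlgGrp.Action.orbitMap, AlgGrp.Action.orbitMap, Category.assoc,
    show (actP e _).act ≫ pt (Ideal.Quotient.mkₐ k (orbitKer (A := A) x₀)) = (G ◁ pt _) ≫ (actP e R).act from
      isEquivariant_pt e _ hmk, lift_whiskerLeft_assoc, Category.assoc, hx₀]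

include hx in
theorem orbit_props [HopfRep.Comod k A (R ⧸ orbitKer (A := A) x₀)]
    [GLin.IsCoactAlg k A (R ⧸ orbitKer (A := A) x₀)]
    (hmk : Hoch.IsComodHom A (Ideal.Quotient.mkₐ k (orbitKer (A := A) x₀)).toLinearMap) :
    Flat ((actP e (R ⧸ orbitKer (A := A) x₀)).orbitMap (pointOf (orbitPt x₀))).left ∧
      LocallyOfFinitePresentation ((actP e (R ⧸ orbitKer (A := A) x₀)).orbitMap (pointOf (orbitPt x₀))).left ∧
      Surjective ((actP e (R ⧸ orbitKer (A := A) x₀)).orbitMap (pointOf (orbitPt x₀))).left := by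
  set φ := (actP e (R ⧸ orbitKer (A := A) x₀)).orbitMap (pointOf (orbitPt x₀)) with hφdef
  let ι₀ : Spec (CommRingCat.of (R ⧸ orbitKer (A := A) x₀)) ⟶ Spec (CommRingCat.of R) :=
    Spec.map (CommRingCat.ofHom (Ideal.Quotient.mk (orbitKer (A := A) x₀)))
  have hs : Surjective φ.left := by
    refine ⟨fun p => ?_⟩
    have h1 : ι₀ p ∈ Set.range (PrimeSpectrum.comap (GLin.orbitHom k A x₀).toRingHom) := by
      unfold GLin.IsClosedOrbit at hx
      rw [← hx.closure_eq, PrimeSpectrum.closure_range_comap]
      refine (PrimeSpectrum.mem_zeroLocus _ _).2 fun r hr => ?_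
      show Ideal.Quotient.mk (orbitKer (A := A) x₀) r ∈ p.asIdeal
      rw [Ideal.Quotient.eq_zero_iff_mem.2 (show r ∈ orbitKer (A := A) x₀ from hr)]
      exact zero_mem _
    rw [← range_orbitMap_actP e x₀, ← orbit_homogeneous e x₀ hmk, ← hφdef] at h1
    obtain ⟨g, hg⟩ := h1
    exact ⟨g, (PrimeSpectrum.comap_injective_of_surjective _ Ideal.Quotient.mk_surjective) hg⟩
  haveI := hs
  haveI : (orbitKer (A := A) x₀).IsPrime := RingHom.ker_isPrime _
  haveI : AlgebraicGeometry.IsReduced (sp k (R ⧸ orbitKer (A := A) x₀)).left :=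
    inferInstanceAs (AlgebraicGeometry.IsReduced (Spec (CommRingCat.of (R ⧸ orbitKer (A := A) x₀))))
  haveI : LocallyOfFiniteType G.hom := by
    rw [← Over.w e.hom]
    haveI : IsIso e.hom.left := ((Over.forget _).mapIso e).isIso_hom
    haveI : LocallyOfFiniteType (sp k A).hom := by
      show LocallyOfFiniteType (Spec.map (CommRingCat.ofHom (algebraMap k A)))
      rw [HasRingHomProperty.Spec_iff (P := @LocallyOfFiniteType)]
      exact RingHom.finiteType_algebraMap.mpr inferInstance
    infer_instance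
  refine ⟨Groth.Agent.Lib.Homog.flat_orbitMap _ _, ?_, hs⟩
  haveI : LocallyOfFiniteType φ.left := by
    haveI : LocallyOfFiniteType (φ.left ≫ (sp k (R ⧸ orbitKer (A := A) x₀)).hom) := by rw [Over.w]; infer_instance
    exact locallyOfFiniteType_of_comp φ.left (sp k (R ⧸ orbitKer (A := A) x₀)).hom
  haveI : IsNoetherianRing (R ⧸ orbitKer (A := A) x₀) := Algebra.FiniteType.isNoetherianRing k _
  haveI : IsLocallyNoetherian (sp k (R ⧸ orbitKer (A := A) x₀)).left :=
    inferInstanceAs (IsLocallyNoetherian (Spec (CommRingCat.of (R ⧸ orbitKer (A := A) x₀))))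
  exact LocallyOfFinitePresentation.iff_locallyOfFiniteType.2 inferInstance

end ClosedOrbit

end

end Groth.Agent.H60.Slice
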