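import Groth.Agent.H60.SliceLift
import Groth.Agent.H60.AlgComod
import Groth.Agent.H60.StabLocus
import Groth.Agent.H60.OrbitSmooth
import Mathlib.RingTheory.Kaehler.Basic

/-!
The ambient space of the slice construction: the orbit times the space of a generating
representation, its translations, and the differentials of the generating functions on the orbit.
-/

set_option autoImplicit false
set_option linter.unusedSectionVars false
set_option linter.style.haveILetI false
universe u

open TensorProduct
open Groth.Agent.Lib.Comod Groth.Agent.Lib.Comod.Basic Groth.Agent.Lib.Comod.Orbits Groth.Agent.Lib.Comod.Alg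
  Groth.Agent.H60.SubAlg

namespace Groth.Agent.H60.Slice

noncomputable section

variable {k : Type u} [Field k] {A : Type u} [CommRing A] [HopfAlgebra k A]

section Trans

variable {P Q : Type u} [CommRing P] [Algebra k P] [HopfRep.Comod k A P] [GLin.IsCoactAlg k A P]
  [CommRing Q] [Algebra k Q] [HopfRep.Comod k A Q] [GLin.IsCoactAlg k A Q]

theorem map_transR {f : P →ₐ[k] Q} (hf : Hoch.IsComodHom A f.toLinearMap) (g : A →ₐ[k] k) (p : P) :
    f (transR g p) = transR g (f p) := by
  rw [transR_apply, transR_apply]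
  exact map_dact hf g.toLinearMap p

/-- Equivariance of an algebra map can be checked on generators. -/
theorem isComodHom_algHom (f : P →ₐ[k] Q) (s : Set P) (hs : Algebra.adjoin k s = ⊤)
    (h : ∀ a ∈ s, HopfRep.Comod.coact (k := k) (A := A) (f a) =
      Algebra.TensorProduct.map f (AlgHom.id k A) (HopfRep.Comod.coact (k := k) (A := A) a)) :
    Hoch.IsComodHom A f.toLinearMap := by
  have e : (GLin.coactAlgHom k A Q).comp f =
      (Algebra.TensorProduct.map f (AlgHom.id k A)).comp (GLin.coactAlgHom k A P) :=
    AlgHom.ext_of_adjoin_eq_top hs fun a ha => by simpa using h a ha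
  refine LinearMap.ext fun p => ?_
  have := AlgHom.congr_fun e p
  simp only [AlgHom.comp_apply, GLin.coactAlgHom_apply] at this
  simp only [LinearMap.comp_apply, AlgHom.toLinearMap_apply]
  rw [this]
  induction HopfRep.Comod.coact (k := k) (A := A) p using TensorProduct.induction_on with
  | zero => simp
  | add y z hy hz => simp only [map_add, hy, hz]
  | tmul v c => simp

/-- The trivial coaction on the ground field. -/
@[reducible] def trivComod : HopfRep.Comod k A k where
  coact := (Algebra.ofId k (k ⊗[k] A)).toLinearMap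
  coassoc := LinearMap.ext fun c => by
    simp [Algebra.ofId_apply, Algebra.TensorProduct.algebraMap_apply, Algebra.TensorProduct.one_def]
  counit_comp := LinearMap.ext fun c => by
    simp [Algebra.ofId_apply, Algebra.TensorProduct.algebraMap_apply]

theorem isCoactAlg_triv :
    letI := trivComod (k := k) (A := A)
    GLin.IsCoactAlg k A k :=
  letI := trivComod (k := k) (A := A)
  ⟨map_one (Algebra.ofId k (k ⊗[k] A)), map_mul (Algebra.ofId k (k ⊗[k] A))⟩

/-- The coaction on a quotient by a stable ideal. -/
theorem isCoactAlg_quot (J : Ideal P) (hJ : HopfRep.IsSubcomod (k := k) (A := A) (J.restrictScalars k)) :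
    letI : HopfRep.Comod k A (P ⧸ J) := quotComod (J.restrictScalars k) hJ
    GLin.IsCoactAlg k A (P ⧸ J) ∧ Hoch.IsComodHom A (Ideal.Quotient.mkₐ k J).toLinearMap := by
  letI : HopfRep.Comod k A (P ⧸ J) := quotComod (J.restrictScalars k) hJ
  have hm : ∀ p : P, HopfRep.Comod.coact (k := k) (A := A) (Ideal.Quotient.mkₐ k J p) =
      Algebra.TensorProduct.map (Ideal.Quotient.mkₐ k J) (AlgHom.id k A) (GLin.coactAlgHom k A P p) := fun p => by
    rw [GLin.coactAlgHom_apply]
    change ((J.restrictScalars k).mkQ.rTensor A) (HopfRep.Comod.coact (k := k) (A := A) p) = _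
    induction HopfRep.Comod.coact (k := k) (A := A) p using TensorProduct.induction_on with
    | zero => rw [map_zero, map_zero]; rfl
    | add y z hy hz => rw [map_add, map_add, hy, hz]; rfl
    | tmul v c => rfl
  refine ⟨⟨?_, fun f g => ?_⟩, LinearMap.ext fun p => ?_⟩
  · have h := hm 1
    rw [map_one (Ideal.Quotient.mkₐ k J)] at h
    exact h.trans (by rw [map_one, map_one])
  · obtain ⟨f, rfl⟩ := Ideal.Quotient.mkₐ_surjective k J f
    obtain ⟨g, rfl⟩ := Ideal.Quotient.mkₐ_surjective k J g
    rw [← map_mul, hm, hm, hm, map_mul, map_mul]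
  · simp only [LinearMap.comp_apply, AlgHom.toLinearMap_apply, hm, GLin.coactAlgHom_apply]
    induction HopfRep.Comod.coact (k := k) (A := A) p using TensorProduct.induction_on with
    | zero => simp
    | add y z hy hz => simp only [map_add, hy, hz]
    | tmul v c => rfl

end Trans

section Amb

variable {O : Type u} [CommRing O] [Algebra k O] [HopfRep.Comod k A O] [GLin.IsCoactAlg k A O]
variable {W : Type u} [AddCommGroup W] [Module k W] [HopfRep.Comod k A W]
variable {ι : Type u} [Fintype ι] (bas : Module.Basis ι k W) (ω : W →ₗ[k] O)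

/-- The coordinates of a vector, as a vector of functions. -/
def cv : W →ₗ[k] (ι → O) := bas.constr k fun i => by classical exact Pi.single i 1

/-- The coordinates relative to the orbit. -/
def xiw : W →ₗ[k] MvPolynomial ι O :=
  AlgComod.lin (A := O) bas - (IsScalarTower.toAlgHom k O (MvPolynomial ι O)).toLinearMap ∘ₗ ω

theorem xiw_apply (w : W) : xiw bas ω w = AlgComod.lin (A := O) bas w - MvPolynomial.C (ω w) := by
  simp [xiw, MvPolynomial.algebraMap_eq]

/-- Affine functions along the orbit. -/
def L : (ι → O) →ₗ[O] MvPolynomial ι O := Fintype.linearCombination O fun i => xiw bas ω (bas i)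

/-- The linear coefficients. -/
def rho : MvPolynomial ι O →ₗ[O] (ι → O) :=
  LinearMap.pi fun i => MvPolynomial.lcoeff O (Finsupp.single i 1)

theorem L_cv (w : W) : L bas ω (cv bas w) = xiw bas ω w := by
  classical
  have : (L bas ω).restrictScalars k ∘ₗ cv bas = xiw bas ω :=
    bas.ext fun i => by simp [L, cv, Fintype.linearCombination_apply_single]
  exact LinearMap.congr_fun this w

theorem rho_L (m : ι → O) : rho (L bas ω m) = m := by
  classical
  funext i
  simp only [rho, LinearMap.pi_apply, MvPolynomial.lcoeff_apply, L, Fintype.linearCombination_apply,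
    MvPolynomial.coeff_sum, MvPolynomial.coeff_smul, xiw_apply, MvPolynomial.coeff_sub, smul_eq_mul]
  have h0 : (0 : ι →₀ ℕ) ≠ Finsupp.single i 1 := fun h => one_ne_zero (Finsupp.single_eq_zero.1 h.symm)
  rw [Finset.sum_eq_single i]
  · simp [AlgComod.lin, MvPolynomial.coeff_C, h0]
  · intro j _ hj
    simp [AlgComod.lin, MvPolynomial.coeff_C, h0, hj, Finsupp.single_eq_single_iff]
  · simp

/-- Comparing the affine functions with the diagonal. -/
def beta : MvPolynomial ι O →ₐ[k] O ⊗[k] O :=
  { MvPolynomial.eval₂Hom (Algebra.TensorProduct.includeLeft : O →ₐ[k] O ⊗[k] O).toRingHom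
      fun i => (1 : O) ⊗ₜ[k] ω (bas i) with
    commutes' := fun c => by
      rw [IsScalarTower.algebraMap_apply k O (MvPolynomial ι O), MvPolynomial.algebraMap_eq]
      simp }

theorem beta_C (o : O) : beta bas ω (MvPolynomial.C o) = o ⊗ₜ[k] (1 : O) := by simp [beta]

theorem beta_X (i : ι) : beta bas ω (MvPolynomial.X i) = (1 : O) ⊗ₜ[k] ω (bas i) := by simp [beta]

theorem lin_basis (i : ι) : AlgComod.lin (A := O) bas (bas i) = MvPolynomial.X i :=
  Module.Basis.constr_basis _ _ _ _

theorem beta_lin (w : W) : beta bas ω (AlgComod.lin (A := O) bas w) = (1 : O) ⊗ₜ[k] ω w := by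
  have : (beta bas ω).toLinearMap ∘ₗ AlgComod.lin (A := O) bas =
      (Algebra.TensorProduct.includeRight : O →ₐ[k] O ⊗[k] O).toLinearMap ∘ₗ ω :=
    bas.ext fun i => by simp only [LinearMap.comp_apply, AlgHom.toLinearMap_apply, lin_basis, beta_X]; rfl
  exact LinearMap.congr_fun this w

theorem beta_xiw (w : W) : beta bas ω (xiw bas ω w) = (1 : O) ⊗ₜ[k] ω w - ω w ⊗ₜ[k] (1 : O) := by
  rw [xiw_apply, map_sub, beta_lin, beta_C]

/-- The differentials of the affine functions. -/
def dF : (ι → O) →ₗ[O] Ω[O⁄k] := Fintype.linearCombination O fun i => KaehlerDifferential.D k O (ω (bas i))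

theorem dF_cv (w : W) : dF bas ω (cv bas w) = KaehlerDifferential.D k O (ω w) := by
  classical
  have : (dF bas ω).restrictScalars k ∘ₗ cv bas = (KaehlerDifferential.D k O).toLinearMap ∘ₗ ω :=
    bas.ext fun i => by simp [dF, cv, Fintype.linearCombination_apply_single]
  exact LinearMap.congr_fun this w

theorem beta_L_mem (m : ι → O) : beta bas ω (L bas ω m) ∈ KaehlerDifferential.ideal k O := by
  simp only [L, Fintype.linearCombination_apply, map_sum, MvPolynomial.smul_eq_C_mul, map_mul, beta_xiw]
  exact Ideal.sum_mem _ fun i _ => Ideal.mul_mem_left _ _ (KaehlerDifferential.one_smul_sub_smul_one_mem_ideal k _)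

theorem dF_eq (m : ι → O) :
    dF bas ω m = (KaehlerDifferential.ideal k O).toCotangent ⟨beta bas ω (L bas ω m), beta_L_mem bas ω m⟩ := by
  have e : (⟨beta bas ω (L bas ω m), beta_L_mem bas ω m⟩ : KaehlerDifferential.ideal k O) =
      ∑ i, (m i ⊗ₜ[k] (1 : O)) • (⟨(1 : O) ⊗ₜ[k] ω (bas i) - ω (bas i) ⊗ₜ[k] (1 : O),
        KaehlerDifferential.one_smul_sub_smul_one_mem_ideal k (ω (bas i))⟩ : KaehlerDifferential.ideal k O) := by
    refine Subtype.ext ?_
    simp [L, Fintype.linearCombination_apply, MvPolynomial.smul_eq_C_mul, beta_C, beta_xiw]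
  rw [e, map_sum]
  simp only [dF, Fintype.linearCombination_apply, map_smul]
  exact Finset.sum_congr rfl fun i _ => (algebraMap_smul (O ⊗[k] O) (m i) _).symm

theorem dF_eq_zero_iff (m : ι → O) :
    dF bas ω m = 0 ↔ beta bas ω (L bas ω m) ∈ KaehlerDifferential.ideal k O ^ 2 := by
  rw [dF_eq]; exact Ideal.toCotangent_eq_zero _ _

theorem dF_surjective (hgen : Algebra.adjoin k (Set.range ω) = ⊤) : Function.Surjective (dF bas ω) := by
  rw [← LinearMap.range_eq_top, eq_top_iff, ← KaehlerDifferential.span_range_derivation, Submodule.span_le]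
  rintro _ ⟨o, rfl⟩
  have ho : o ∈ Algebra.adjoin k (Set.range ω) := hgen ▸ Algebra.mem_top
  induction ho using Algebra.adjoin_induction with
  | mem y hy => obtain ⟨w, rfl⟩ := hy; exact ⟨cv bas w, dF_cv bas ω w⟩
  | algebraMap c => simp
  | add a b _ _ ha hb => rw [SetLike.mem_coe, map_add]; exact add_mem ha hb
  | mul a b _ _ ha hb =>
    rw [SetLike.mem_coe, Derivation.leibniz]
    exact add_mem (Submodule.smul_mem _ _ hb) (Submodule.smul_mem _ _ ha)

/-- The coaction on the ambient ring. -/
@[reducible] def ambComod : HopfRep.Comod k A (MvPolynomial ι O) := AlgComod.polyComod (H := A) O bas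

variable (hω : Hoch.IsComodHom A ω) (g : A →ₐ[k] k)

/-- Translation of the ambient ring. -/
def tB : MvPolynomial ι O →ₐ[k] MvPolynomial ι O :=
  letI := ambComod (A := A) (O := O) bas
  haveI := AlgComod.isCoactAlg_poly (H := A) (A := O) bas
  transR g

theorem tB_C (o : O) : tB bas g (MvPolynomial.C o) = MvPolynomial.C (transR g o) := by
  letI := ambComod (A := A) (O := O) bas
  haveI := AlgComod.isCoactAlg_poly (H := A) (A := O) bas
  exact (map_transR (f := IsScalarTower.toAlgHom k O (MvPolynomial ι O)) (AlgComod.polyHom_C (H := A) (A := O) bas)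
    g o).symm

theorem tB_lin (w : W) : tB bas g (AlgComod.lin (A := O) bas w) = AlgComod.lin (A := O) bas (dact W g.toLinearMap w) := by
  letI := ambComod (A := A) (O := O) bas
  haveI := AlgComod.isCoactAlg_poly (H := A) (A := O) bas
  rw [show tB bas g = transR g from rfl, transR_apply]
  exact (map_dact (g := AlgComod.lin (A := O) bas) (AlgComod.polyHom_lin (H := A) (A := O) bas) g.toLinearMap w).symm

include hω in
theorem tB_xiw (w : W) : tB bas g (xiw bas ω w) = xiw bas ω (dact W g.toLinearMap w) := by
  rw [xiw_apply, xiw_apply, map_sub, tB_C, tB_lin, transR_apply, map_dact hω]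

/-- Translation of coordinate vectors. -/
def tM : (ι → O) →ₗ[k] (ι → O) :=
  rho.restrictScalars k ∘ₗ (tB bas g).toLinearMap ∘ₗ (L bas ω).restrictScalars k

include hω in
theorem L_tM (m : ι → O) : L bas ω (tM bas ω g m) = tB bas g (L bas ω m) := by
  classical
  obtain ⟨n, hn⟩ : tB bas g (L bas ω m) ∈ LinearMap.range (L bas ω) := by
    rw [show L bas ω m = ∑ i, m i • xiw bas ω (bas i) from Fintype.linearCombination_apply _ _ _, map_sum]
    refine Submodule.sum_mem _ fun i _ => ?_
    rw [MvPolynomial.smul_eq_C_mul, map_mul, tB_C, tB_xiw bas ω hω, ← L_cv, ← MvPolynomial.smul_eq_C_mul]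
    exact Submodule.smul_mem _ _ ⟨_, rfl⟩
  change L bas ω (rho (tB bas g (L bas ω m))) = _
  rw [← hn, rho_L]

include hω in
theorem tM_smul (o : O) (m : ι → O) : tM bas ω g (o • m) = transR g o • tM bas ω g m := by
  change rho (tB bas g (L bas ω (o • m))) = transR g o • rho (tB bas g (L bas ω m))
  rw [map_smul, MvPolynomial.smul_eq_C_mul, map_mul, tB_C, ← MvPolynomial.smul_eq_C_mul, map_smul]

include hω in
theorem tM_cv (w : W) : tM bas ω g (cv bas w) = cv bas (dact W g.toLinearMap w) := by
  change rho (tB bas g (L bas ω (cv bas w))) = _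
  rw [L_cv, tB_xiw bas ω hω, ← L_cv, rho_L]

theorem tB_tB_invPt (p : MvPolynomial ι O) : tB bas g (tB bas (invPt g) p) = p := by
  letI := ambComod (A := A) (O := O) bas
  haveI := AlgComod.isCoactAlg_poly (H := A) (A := O) bas
  rw [show tB bas g = transR g from rfl, show tB bas (invPt g) = transR (invPt g) from rfl,
    transR_apply, transR_apply, dact_dact, ← mulPt_toLinearMap, mulPt_invPt]
  exact dact_counit_apply _ p

include hω in
theorem tM_tM_invPt (m : ι → O) : tM bas ω g (tM bas ω (invPt g) m) = m := by
  change rho (tB bas g (L bas ω (tM bas ω (invPt g) m))) = m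
  rw [L_tM bas ω hω, tB_tB_invPt, rho_L]

include hω in
theorem dF_tM_eq_zero {m : ι → O} (hm : dF bas ω m = 0) : dF bas ω (tM bas ω g m) = 0 := by
  rw [dF_eq_zero_iff] at hm ⊢
  rw [L_tM bas ω hω]
  let tt : O ⊗[k] O →ₐ[k] O ⊗[k] O := Algebra.TensorProduct.map (transR g) (transR g)
  have hβ : (beta bas ω).comp (tB bas g) = tt.comp (beta bas ω) := by
    refine AlgHom.coe_ringHom_injective (MvPolynomial.ringHom_ext (fun o => ?_) fun i => ?_)
    · simp [tt, tB_C, beta_C]
    · have hi : (MvPolynomial.X i : MvPolynomial ι O) = AlgComod.lin (A := O) bas (bas i) := (lin_basis bas i).symm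
      simp only [AlgHom.toRingHom_eq_coe, RingHom.coe_coe, AlgHom.comp_apply, hi, tB_lin, beta_lin, tt,
        Algebra.TensorProduct.map_tmul, map_one, transR_apply, map_dact hω]
  have hI : (KaehlerDifferential.ideal k O).map tt ≤ KaehlerDifferential.ideal k O := by
    rw [Ideal.map_le_iff_le_comap]
    intro z hz
    rw [Ideal.mem_comap, RingHom.mem_ker]
    have e : (Algebra.TensorProduct.lmul' k).comp tt = (transR g).comp (Algebra.TensorProduct.lmul' k) :=
      Algebra.TensorProduct.ext' fun a b => by simp [tt]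
    have h := AlgHom.congr_fun e z
    simp only [AlgHom.comp_apply] at h
    rw [h, RingHom.mem_ker.1 hz, map_zero]
  have h2 := Ideal.mem_map_of_mem tt hm
  rw [Ideal.map_pow] at h2
  have h3 := Ideal.pow_right_mono hI 2 h2
  rw [show tt (beta bas ω (L bas ω m)) = beta bas ω (tB bas g (L bas ω m)) from (AlgHom.congr_fun hβ _).symm] at h3
  exact h3

end Amb

end

end Groth.Agent.H60.Slice
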